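import Mathlib

/-!
# Groups all of whose element orders are at most five: centralisers and inverting involutions
-/

set_option autoImplicit false
set_option linter.style.haveILetI false
set_option linter.unusedSectionVars false

namespace Cfsg.Agent.OrderFive

open Subgroup

universe u

variable {G : Type u} [Group G]

/-- All element orders are at most five. -/
def Small (G : Type u) [Group G] : Prop := ∀ g : G, orderOf g ≤ 5

theorem mul_self_of_orderOf {v : G} (hv : orderOf v = 2) : v * v = 1 := by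
  rw [← pow_two, ← hv, pow_orderOf_eq_one]

theorem inv_of_orderOf {v : G} (hv : orderOf v = 2) : v⁻¹ = v :=
  inv_eq_of_mul_eq_one_right (mul_self_of_orderOf hv)

theorem orderOf_conj (g v : G) : orderOf (g * v * g⁻¹) = orderOf v := by
  rw [show g * v * g⁻¹ = MulAut.conj g v from rfl, MulEquiv.orderOf_eq]

theorem orderOf_of_isConj {u v : G} (h : IsConj u v) : orderOf v = orderOf u := by
  obtain ⟨c, rfl⟩ := isConj_iff.1 h
  exact orderOf_conj c u

variable [Finite G]

theorem Small.orderOf_cases (h : Small G) (g : G) :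
    orderOf g = 1 ∨ orderOf g = 2 ∨ orderOf g = 3 ∨ orderOf g = 4 ∨ orderOf g = 5 := by
  have := h g
  have := orderOf_pos g
  omega

theorem Small.prime_cases (h : Small G) {q : ℕ} (hq : q.Prime) (hd : q ∣ Nat.card G) :
    q = 2 ∨ q = 3 ∨ q = 5 := by
  haveI := Fact.mk hq
  obtain ⟨x, hx⟩ := exists_prime_orderOf_dvd_card' (G := G) q hd
  have := h x
  have := hq.two_le
  rcases (show q = 2 ∨ q = 3 ∨ q = 4 ∨ q = 5 by omega) with e | e | e | e
  · exact Or.inl e
  · exact Or.inr (Or.inl e)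
  · subst e; norm_num at hq
  · exact Or.inr (Or.inr e)

theorem Small.subgroup (h : Small G) (H : Subgroup G) : Small H := fun x => by
  rw [← Subgroup.orderOf_coe]; exact h x

theorem Small.quotient (h : Small G) (N : Subgroup G) [N.Normal] : Small (G ⧸ N) := fun x => by
  obtain ⟨g, rfl⟩ := QuotientGroup.mk'_surjective N x
  exact (Nat.le_of_dvd (orderOf_pos g) (orderOf_map_dvd _ g)).trans (h g)

theorem Small.of_equiv (h : Small G) {H : Type*} [Group H] (e : G ≃* H) : Small H := fun x => by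
  rw [← MulEquiv.orderOf_eq e.symm x]; exact h _

/-- Commuting elements of coprime orders. -/
theorem Small.mul_le (h : Small G) {x y : G} (hc : Commute x y)
    (hco : (orderOf x).Coprime (orderOf y)) : orderOf x * orderOf y ≤ 5 :=
  (hc.orderOf_mul_eq_mul_orderOf_of_coprime hco).symm.trans_le (h _)

theorem Small.centralizer_isPGroup (h : Small G) {y : G} {p : ℕ} (hp : p.Prime)
    (hy : orderOf y = p) : IsPGroup p (centralizer ({y} : Set G)) := by
  haveI := Fact.mk hp
  refine IsPGroup.of_card (n := (Nat.card (centralizer ({y} : Set G))).primeFactorsList.length)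
    (Nat.eq_prime_pow_of_unique_prime_dvd Nat.card_pos.ne' fun {q} hq hqd => ?_)
  haveI := Fact.mk hq
  obtain ⟨c, hc⟩ := exists_prime_orderOf_dvd_card' (G := centralizer ({y} : Set G)) q hqd
  rw [← Subgroup.orderOf_coe] at hc
  by_contra hne
  have hle := h.mul_le (x := (c : G)) (y := y) (mem_centralizer_singleton_iff.1 c.2)
    (by rw [hc, hy]; exact (Nat.coprime_primes hq hp).2 hne)
  rw [hc, hy] at hle
  have := hp.two_le
  have := hq.two_le
  rcases (show p = 2 ∨ 3 ≤ p by omega) with e | e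
  · subst e
    have : 3 ≤ q := by omega
    omega
  · nlinarith

/-- An involution never commutes with an element of order three or five. -/
theorem Small.not_commute_two (h : Small G) {v c : G} (hv : orderOf v = 2) {p : ℕ} (hp : p.Prime)
    (h3 : 3 ≤ p) (hc : orderOf c = p) : ¬ Commute v c := fun hvc => by
  have := h.mul_le hvc (by rw [hv, hc]; exact (Nat.coprime_primes Nat.prime_two hp).2 (by omega))
  rw [hv, hc] at this
  omega

theorem Small.eq_one_of_fix (h : Small G) {v c : G} (hv : orderOf v = 2) {p : ℕ} (hp : p.Prime)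
    (h3 : 3 ≤ p) {k : ℕ} (hc : orderOf c = p ^ k) (hvc : Commute v c) : c = 1 := by
  rcases Nat.eq_zero_or_pos k with rfl | hk
  · exact orderOf_eq_one_iff.1 (by simpa using hc)
  refine absurd (hvc.pow_right (p ^ (k - 1))) (h.not_commute_two hv hp h3 ?_)
  rw [orderOf_pow' _ (pow_ne_zero _ hp.ne_zero), hc,
    Nat.gcd_eq_right (pow_dvd_pow p (Nat.sub_le k 1)), Nat.pow_div (Nat.sub_le k 1) hp.pos,
    show k - (k - 1) = 1 by omega, pow_one]

/-- An involution without nontrivial fixed point on a subgroup it normalises inverts it. -/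
theorem inverts_of_fpf {H : Subgroup G} {v : G} (hv : v * v = 1)
    (hnorm : ∀ c ∈ H, v * c * v⁻¹ ∈ H) (hfix : ∀ c ∈ H, v * c * v⁻¹ = c → c = 1) :
    ∀ b ∈ H, v * b * v⁻¹ = b⁻¹ := by
  have hvi : v⁻¹ = v := inv_eq_of_mul_eq_one_right hv
  let f : H → H := fun c => ⟨(c : G)⁻¹ * (v * c * v⁻¹), mul_mem (inv_mem c.2) (hnorm _ c.2)⟩
  have hf : Function.Injective f := fun c d hcd => by
    have e : (c : G)⁻¹ * (v * c * v⁻¹) = (d : G)⁻¹ * (v * d * v⁻¹) := congrArg Subtype.val hcd
    have h1 : v * ((d : G) * (c : G)⁻¹) * v⁻¹ = (d : G) * (c : G)⁻¹ := by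
      calc v * ((d : G) * (c : G)⁻¹) * v⁻¹ = (d : G) * ((d : G)⁻¹ * (v * d * v⁻¹)) * (v * c * v⁻¹)⁻¹ := by
            group
        _ = (d : G) * ((c : G)⁻¹ * (v * c * v⁻¹)) * (v * c * v⁻¹)⁻¹ := by rw [e]
        _ = _ := by group
    exact Subtype.ext (mul_inv_eq_one.1 (hfix _ (mul_mem d.2 (inv_mem c.2)) h1)).symm
  intro b hb
  obtain ⟨c, hc⟩ := Finite.surjective_of_injective hf ⟨b, hb⟩
  have e : (c : G)⁻¹ * (v * c * v⁻¹) = b := congrArg Subtype.val hc
  rw [← e, hvi]
  calc v * ((c : G)⁻¹ * (v * c * v)) * v = v * (c : G)⁻¹ * v * (c : G) * (v * v) := by group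
    _ = ((c : G)⁻¹ * (v * c * v))⁻¹ := by
      rw [hv, mul_one]
      simp only [mul_inv_rev, hvi, inv_inv, mul_assoc]

/-- A subgroup inverted by conjugation is commutative. -/
theorem comm_of_inverts {H : Subgroup G} {v : G} (hinv : ∀ b ∈ H, v * b * v⁻¹ = b⁻¹) {a b : G}
    (ha : a ∈ H) (hb : b ∈ H) : a * b = b * a := by
  have e : (a * b)⁻¹ = (b * a)⁻¹ := by
    rw [← hinv _ (mul_mem ha hb), mul_inv_rev b a, ← hinv _ ha, ← hinv _ hb]
    group
  exact inv_injective e

section Words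

variable {u y : G}

theorem word_four (hu : u * u = 1) (hy : y * y * y = 1) (h4 : (u * y) ^ 4 = 1) :
    ((u * y * u * y) * u * (u * y * u * y)⁻¹) * y =
      y⁻¹ * (u * y * u * y⁻¹ * u) * y := by
  have hui : u⁻¹ = u := inv_eq_of_mul_eq_one_right hu
  have hyy : y⁻¹ * y⁻¹ = y := by
    rw [← mul_inv_rev, inv_eq_iff_mul_eq_one, hy]
  have hR : u * y * u * y = y⁻¹ * u * y⁻¹ * u := by
    rw [pow_succ, pow_succ, pow_two] at h4
    have : (u * y * u * y) = (u * y * u * y)⁻¹ := by
      rw [eq_inv_iff_mul_eq_one, ← h4]; group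
    rw [this, mul_inv_rev, mul_inv_rev, mul_inv_rev, hui]; group
  congr 1
  calc (u * y * u * y) * u * (u * y * u * y)⁻¹
      = (y⁻¹ * u * y⁻¹ * u) * u * (u * y * u * y)⁻¹ := by rw [hR]
    _ = y⁻¹ * u * y⁻¹ * (u * u) * (y⁻¹ * u⁻¹ * y⁻¹ * u⁻¹) := by group
    _ = y⁻¹ * u * (y⁻¹ * y⁻¹) * u * y⁻¹ * u := by rw [hu, hui]; group
    _ = y⁻¹ * (u * y * u * y⁻¹ * u) := by rw [hyy]; group

theorem word_five (hu : u * u = 1) (hy : y * y * y = 1) (h5 : (u * y) ^ 5 = 1) :
    (u * y * u * y⁻¹ * u * y * u * y⁻¹ * u) * y =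
      (u * y) * (u * y * u * y⁻¹ * u * y * u * y⁻¹ * u) * (u * y)⁻¹ := by
  have hui : u⁻¹ = u := inv_eq_of_mul_eq_one_right hu
  have hyy : y⁻¹ * y⁻¹ = y := by
    rw [← mul_inv_rev, inv_eq_iff_mul_eq_one, hy]
  have hR : u * y * u * y = y⁻¹ * u * y⁻¹ * u * y⁻¹ * u := by
    rw [pow_succ, pow_succ, pow_succ, pow_two] at h5
    have : (u * y * u * y) = (u * y * u * y * u * y)⁻¹ := by
      rw [eq_inv_iff_mul_eq_one, ← h5]; group
    rw [this, mul_inv_rev, mul_inv_rev, mul_inv_rev, mul_inv_rev, mul_inv_rev, hui]; group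
  rw [eq_mul_inv_iff_mul_eq]
  calc (u * y * u * y⁻¹ * u * y * u * y⁻¹ * u) * y * (u * y)
      = (u * y * u * y⁻¹ * u * y * u * y⁻¹) * (u * y * u * y) := by group
    _ = (u * y * u * y⁻¹ * u * y * u) * (y⁻¹ * y⁻¹) * u * y⁻¹ * u * y⁻¹ * u := by rw [hR]; group
    _ = u * y * u * y⁻¹ * (u * y * u * y) * u * y⁻¹ * u * y⁻¹ * u := by rw [hyy]; group
    _ = u * y * u * (y⁻¹ * y⁻¹) * u * y⁻¹ * u * y⁻¹ * (u * u) * y⁻¹ * u * y⁻¹ * u := by rw [hR]; group
    _ = u * y * u * y * u * y⁻¹ * u * (y⁻¹ * y⁻¹) * u * y⁻¹ * u := by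
      rw [hu]; nth_rewrite 1 [hyy]; group
    _ = u * y * (u * y * u * y⁻¹ * u * y * u * y⁻¹ * u) := by rw [hyy]; group

end Words

/-- Every class of involutions contains an element inverting a given element of order three. -/
theorem Small.exists_inverter [IsSimpleGroup G] (h : Small G) {u y : G} (hu : orderOf u = 2)
    (hy : orderOf y = 3) : ∃ v : G, IsConj u v ∧ v * y * v⁻¹ = y⁻¹ := by
  by_contra hno
  push Not at hno
  have hy3 : y * y * y = 1 := by rw [← pow_three', ← hy, pow_orderOf_eq_one]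
  have of_invol : ∀ v : G, IsConj u v → (v * y) * (v * y) = 1 → False := fun v hv hvy => by
    refine hno v hv (eq_inv_of_mul_eq_one_left ?_)
    rw [inv_of_orderOf ((orderOf_of_isConj hv).trans hu)]
    calc v * y * v * y = (v * y) * (v * y) := by group
      _ = 1 := hvy
  -- every product with a conjugate of `u` is a conjugate of `y`
  have key : ∀ u' : G, IsConj u u' → IsConj y (u' * y) := by
    intro u' hu'
    have ho : orderOf u' = 2 := (orderOf_of_isConj hu').trans hu
    have hu2 := mul_self_of_orderOf ho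
    rcases h.orderOf_cases (u' * y) with e | e | e | e | e
    · exfalso
      rw [orderOf_eq_one_iff, mul_eq_one_iff_inv_eq, inv_of_orderOf ho] at e
      rw [← e] at hy
      omega
    · exact (of_invol u' hu' (by rw [← pow_two, ← e, pow_orderOf_eq_one])).elim
    · refine isConj_iff.2 ⟨y * u' * y⁻¹, ?_⟩
      have h3 : u' * y * (u' * y) * (u' * y) = 1 := by rw [← pow_three', ← e, pow_orderOf_eq_one]
      have hR : y * u' * y = u'⁻¹ * y⁻¹ * u'⁻¹ := by
        rw [← mul_inv_rev, ← mul_inv_rev, eq_inv_iff_mul_eq_one, ← mul_left_cancel_iff (a := u'),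
          mul_one]
        calc u' * (y * u' * y * (u' * (y * u'))) = u' * y * (u' * y) * (u' * y) * u' := by group
          _ = u' := by rw [h3, one_mul]
      calc y * u' * y⁻¹ * y * (y * u' * y⁻¹)⁻¹ = (y * u' * y) * u'⁻¹ * y⁻¹ := by group
        _ = u'⁻¹ * y⁻¹ * (u'⁻¹ * u'⁻¹) * y⁻¹ := by rw [hR]; group
        _ = u' * (y⁻¹ * y⁻¹) := by
            rw [inv_of_orderOf ho, hu2, mul_one, mul_assoc]
        _ = u' * y := by
            rw [← mul_inv_rev, inv_eq_of_mul_eq_one_right (show y * y * y = 1 from hy3)]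
    · refine (of_invol ((u' * y * u' * y) * u' * (u' * y * u' * y)⁻¹)
        (hu'.trans (isConj_iff.2 ⟨u' * y * u' * y, rfl⟩)) ?_).elim
      rw [word_four hu2 hy3 (by rw [← e, pow_orderOf_eq_one])]
      rw [show u' * y * u' * y⁻¹ * u' = (u' * y) * u' * (u' * y)⁻¹ by
        rw [mul_inv_rev, inv_of_orderOf ho]; group]
      calc y⁻¹ * ((u' * y) * u' * (u' * y)⁻¹) * y * (y⁻¹ * ((u' * y) * u' * (u' * y)⁻¹) * y)
          = y⁻¹ * ((u' * y) * (u' * u') * (u' * y)⁻¹) * y := by group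
        _ = 1 := by rw [hu2]; group
    · set v := u' * y * u' * y⁻¹ * u' * y * u' * y⁻¹ * u' with hv
      have hvu : v = (u' * y * u' * y⁻¹) * u' * (u' * y * u' * y⁻¹)⁻¹ := by
        rw [hv, mul_inv_rev, mul_inv_rev, mul_inv_rev, inv_of_orderOf ho]; group
      have hvc : IsConj u v := hu'.trans (isConj_iff.2 ⟨_, hvu.symm⟩)
      refine (of_invol v hvc ?_).elim
      rw [hv, word_five hu2 hy3 (by rw [← e, pow_orderOf_eq_one]), ← hv]
      calc u' * y * v * (u' * y)⁻¹ * (u' * y * v * (u' * y)⁻¹)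
          = u' * y * (v * v) * (u' * y)⁻¹ := by group
        _ = 1 := by rw [mul_self_of_orderOf ((orderOf_of_isConj hvc).trans hu)]; group
  let M : Set G := {g | ∀ z, IsConj y z → IsConj y (g * z)}
  have hMmul : ∀ {a b : G}, a ∈ M → b ∈ M → a * b ∈ M := fun {a b} ha hb z hz => by
    rw [mul_assoc]; exact ha _ (hb z hz)
  have hMone : (1 : G) ∈ M := fun z hz => by rwa [one_mul]
  have hgen : Group.conjugatesOfSet ({u} : Set G) ⊆ M := by
    intro u₁ hu₁ z hz
    obtain ⟨a, ha, hau⟩ := Group.mem_conjugatesOfSet_iff.1 hu₁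
    rw [Set.mem_singleton_iff] at ha
    subst ha
    obtain ⟨c, rfl⟩ := isConj_iff.1 hz
    refine (key (c⁻¹ * u₁ * c) (hau.trans (isConj_iff.2 ⟨c⁻¹, by group⟩))).trans ?_
    exact isConj_iff.2 ⟨c, by group⟩
  have hpow : ∀ {a : G}, a ∈ M → ∀ n : ℕ, a ^ n ∈ M := fun {a} ha n => by
    induction n with
    | zero => simpa using hMone
    | succ n ih => rw [pow_succ]; exact hMmul ih ha
  have htop : Subgroup.normalClosure ({u} : Set G) = ⊤ :=
    ((IsSimpleGroup.eq_bot_or_eq_top_of_normal (Subgroup.normalClosure ({u} : Set G))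
      inferInstance).resolve_left fun hb => by
        have : u ∈ Subgroup.normalClosure ({u} : Set G) := Subgroup.subset_normalClosure rfl
        rw [hb, Subgroup.mem_bot] at this
        rw [this, orderOf_one] at hu
        omega)
  have hall : ∀ g : G, g ∈ M := fun g => by
    have hg : g ∈ Subgroup.closure (Group.conjugatesOfSet ({u} : Set G)) := by
      show g ∈ Subgroup.normalClosure ({u} : Set G)
      rw [htop]; trivial
    induction hg using Subgroup.closure_induction with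
    | mem x hx => exact hgen hx
    | one => exact hMone
    | mul a b _ _ ha hb => exact hMmul ha hb
    | inv a _ ha =>
      rw [inv_eq_of_mul_eq_one_right (show a * a ^ (orderOf a - 1) = 1 by
        rw [← pow_succ', Nat.sub_add_cancel (orderOf_pos a), pow_orderOf_eq_one])]
      exact hpow ha _
  have h1 := hall y⁻¹ y (IsConj.refl y)
  rw [inv_mul_cancel, isConj_one_left] at h1
  rw [h1, orderOf_one] at hy
  omega

/-- The centraliser of an element of order three is an abelian inverted subgroup. -/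
theorem Small.exists_inverts_centralizer [IsSimpleGroup G] (h : Small G) {u y : G}
    (hu : orderOf u = 2) (hy : orderOf y = 3) :
    ∃ v : G, IsConj u v ∧ ∀ c ∈ centralizer ({y} : Set G), v * c * v⁻¹ = c⁻¹ := by
  obtain ⟨v, hv, hvy⟩ := h.exists_inverter hu hy
  have hv2 := (orderOf_of_isConj hv).trans hu
  refine ⟨v, hv, inverts_of_fpf (mul_self_of_orderOf hv2) (fun c hc => ?_) fun c hc hfix => ?_⟩
  · rw [mem_centralizer_singleton_iff] at hc ⊢
    have hy' : v * y⁻¹ * v⁻¹ = y := by rw [← conj_inv, hvy, inv_inv]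
    calc v * c * v⁻¹ * y = v * c * v⁻¹ * (v * y⁻¹ * v⁻¹) := by rw [hy']
      _ = v * (c * y⁻¹) * v⁻¹ := by group
      _ = v * (y⁻¹ * c) * v⁻¹ := by rw [(Commute.inv_right hc : Commute c y⁻¹).eq]
      _ = (v * y⁻¹ * v⁻¹) * (v * c * v⁻¹) := by group
      _ = y * (v * c * v⁻¹) := by rw [hy']
  · obtain ⟨k, hk⟩ := IsPGroup.iff_orderOf.1 (h.centralizer_isPGroup Nat.prime_three hy) ⟨c, hc⟩
    rw [← Subgroup.orderOf_coe] at hk
    exact h.eq_one_of_fix hv2 Nat.prime_three le_rfl hk (mul_inv_eq_iff_eq_mul.1 hfix)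

theorem Small.comm_centralizer_three [IsSimpleGroup G] (h : Small G) (h2 : 2 ∣ Nat.card G) {y : G}
    (hy : orderOf y = 3) {a b : G} (ha : a ∈ centralizer ({y} : Set G))
    (hb : b ∈ centralizer ({y} : Set G)) : a * b = b * a := by
  haveI := Fact.mk Nat.prime_two
  obtain ⟨u, hu⟩ := exists_prime_orderOf_dvd_card' (G := G) 2 h2
  obtain ⟨v, -, hv⟩ := h.exists_inverts_centralizer hu hy
  exact comm_of_inverts hv ha hb

theorem Small.isConj_of_invol [IsSimpleGroup G] (h : Small G) (h3 : 3 ∣ Nat.card G) {u v : G}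
    (hu : orderOf u = 2) (hv : orderOf v = 2) : IsConj u v := by
  haveI := Fact.mk Nat.prime_three
  obtain ⟨y, hy⟩ := exists_prime_orderOf_dvd_card' (G := G) 3 h3
  obtain ⟨u₁, hu₁, hi₁⟩ := h.exists_inverts_centralizer hu hy
  obtain ⟨v₁, hv₁, hi₂⟩ := h.exists_inverts_centralizer hv hy
  refine hu₁.trans (IsConj.trans ?_ hv₁.symm)
  have hu₁' := (orderOf_of_isConj hu₁).trans hu
  have hv₁' := (orderOf_of_isConj hv₁).trans hv
  set a := u₁ * v₁ with ha
  have hyC : y ∈ centralizer ({y} : Set G) := mem_centralizer_singleton_iff.2 rfl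
  have hau : a * y * a⁻¹ = y := by
    rw [ha, show u₁ * v₁ * y * (u₁ * v₁)⁻¹ = u₁ * (v₁ * y * v₁⁻¹) * u₁⁻¹ by group, hi₂ y hyC,
      ← inv_inv (u₁ * y⁻¹ * u₁⁻¹), conj_inv, inv_inv, hi₁ y hyC, inv_inv]
  have haC : a ∈ centralizer ({y} : Set G) :=
    mem_centralizer_singleton_iff.2 (mul_inv_eq_iff_eq_mul.1 hau)
  obtain ⟨k, hk⟩ := IsPGroup.iff_orderOf.1 (h.centralizer_isPGroup Nat.prime_three hy) ⟨a, haC⟩
  rw [← Subgroup.orderOf_coe] at hk
  obtain ⟨m, hm⟩ := (Odd.pow (by decide : Odd 3) : Odd (3 ^ k))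
  set c := a ^ (m + 1) with hc
  have hcc : c * c = a := by
    rw [hc, ← pow_add, show m + 1 + (m + 1) = 3 ^ k + 1 by omega, pow_succ,
      show a ^ (3 ^ k) = 1 by
        have := pow_orderOf_eq_one a
        rwa [show orderOf a = 3 ^ k from hk] at this, one_mul]
  have hcu : u₁ * c * u₁⁻¹ = c⁻¹ := hi₁ c (pow_mem haC _)
  refine isConj_iff.2 ⟨c⁻¹, ?_⟩
  calc c⁻¹ * u₁ * c⁻¹⁻¹ = c⁻¹ * (u₁ * c * u₁⁻¹) * u₁ := by group
    _ = (c * c)⁻¹ * u₁ := by rw [hcu]; group
    _ = v₁ := by
        rw [hcc, ha, mul_inv_rev, inv_of_orderOf hv₁', inv_of_orderOf hu₁', mul_assoc,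
          mul_self_of_orderOf hu₁', mul_one]

end Cfsg.Agent.OrderFive
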