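import Mathlib

/-!
# Consecutive smooth numbers
-/

set_option autoImplicit false

namespace Cfsg.Agent.OrderFive

theorem pow_three_mod (j : ℕ) :
    3 ^ j % 80 = 1 ∨ 3 ^ j % 80 = 3 ∨ 3 ^ j % 80 = 9 ∨ 3 ^ j % 80 = 27 := by
  induction j with
  | zero => simp
  | succ j ih => rw [pow_succ, Nat.mul_mod]; rcases ih with e | e | e | e <;> rw [e] <;> norm_num

theorem pow_five_mod (j : ℕ) : (5 ^ j % 8 = 1 ∧ 5 ^ j % 3 = 1) ∨ (5 ^ j % 8 = 5 ∧ 5 ^ j % 3 = 2) := by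
  induction j with
  | zero => simp
  | succ j ih => rw [pow_succ]; omega

theorem not_dvd_two_pow {p : ℕ} (hp : p.Prime) (h : p ≠ 2) (i : ℕ) : ¬ p ∣ 2 ^ i := fun hd =>
  h ((Nat.prime_dvd_prime_iff_eq hp Nat.prime_two).1 (hp.dvd_of_dvd_pow hd))

theorem three_pow_add_one {i j : ℕ} (h : 3 ^ j + 1 = 2 ^ i) : 3 ^ j = 1 ∨ 3 ^ j = 3 := by
  have h8 := pow_three_mod j
  rcases (show i ≤ 2 ∨ 3 ≤ i by omega) with hi | hi
  · have hpos : 0 < 3 ^ j := pow_pos (by norm_num) j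
    interval_cases i <;> omega
  · obtain ⟨k, hk⟩ := pow_dvd_pow 2 hi
    omega

theorem two_pow_add_one {i j : ℕ} (h : 2 ^ i + 1 = 3 ^ j) : 2 ^ i = 1 ∨ 2 ^ i = 2 ∨ 2 ^ i = 8 := by
  rcases (show i ≤ 3 ∨ 4 ≤ i by omega) with hi | hi
  · have h3 : j = 0 ∨ 3 ∣ 3 ^ j := j.eq_zero_or_pos.imp id fun hj => dvd_pow_self 3 hj.ne'
    rcases h3 with rfl | ⟨k, hk⟩ <;> interval_cases i <;> omega
  · obtain ⟨k, hk⟩ := pow_dvd_pow 2 hi
    have h5 : ¬ 5 ∣ 2 ^ i := not_dvd_two_pow (by norm_num) (by norm_num) i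
    have h16 := pow_three_mod j
    omega

theorem five_pow_add_one {i j : ℕ} (h : 5 ^ j + 1 = 2 ^ i) : 5 ^ j = 1 := by
  rcases (show i ≤ 2 ∨ 3 ≤ i by omega) with hi | hi
  · have h8 := pow_five_mod j
    interval_cases i <;> omega
  · obtain ⟨k, hk⟩ := pow_dvd_pow 2 hi
    have h8 := pow_five_mod j
    omega

theorem two_pow_add_one' {i j : ℕ} (h : 2 ^ i + 1 = 5 ^ j) : 2 ^ i = 4 := by
  rcases (show i ≤ 2 ∨ 3 ≤ i by omega) with hi | hi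
  · have h8 := pow_five_mod j
    interval_cases i <;> omega
  · obtain ⟨k, hk⟩ := pow_dvd_pow 2 hi
    have h8 := pow_five_mod j
    have h3 : ¬ 3 ∣ 2 ^ i := not_dvd_two_pow Nat.prime_three (by norm_num) i
    omega

/-- A divisor prime to `r` of `2^i q^j r^k` is a product of powers of `2` and `q`. -/
theorem exists_two_part {a i j k q r : ℕ} (hq : q.Prime) (hr : r.Prime) (hra : ¬ r ∣ a)
    (hd : a ∣ 2 ^ i * q ^ j * r ^ k) : ∃ x y : ℕ, a = 2 ^ x * q ^ y := by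
  have h' : a ∣ 2 ^ i * q ^ j :=
    (((hr.coprime_iff_not_dvd.2 hra).pow_left k).symm).dvd_of_dvd_mul_right hd
  obtain ⟨u, v, hu, hv, rfl⟩ := Nat.dvd_mul.1 h'
  obtain ⟨x, -, rfl⟩ := (Nat.dvd_prime_pow Nat.prime_two).1 hu
  obtain ⟨y, -, rfl⟩ := (Nat.dvd_prime_pow hq).1 hv
  exact ⟨x, y, rfl⟩

theorem consecutive {a i j k q r : ℕ} (hq : q.Prime) (hr : r.Prime)
    (hra : ¬ r ∣ a) (hra' : ¬ r ∣ a + 1) (ha : a ∣ 2 ^ i * q ^ j * r ^ k)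
    (ha' : a + 1 ∣ 2 ^ i * q ^ j * r ^ k) :
    a ≤ 1 ∨ (∃ x y, a = 2 ^ x ∧ a + 1 = q ^ y) ∨ ∃ x y, a = q ^ y ∧ a + 1 = 2 ^ x := by
  obtain ⟨x, y, e⟩ := exists_two_part hq hr hra ha
  obtain ⟨x', y', e'⟩ := exists_two_part hq hr hra' ha'
  have h2 : x = 0 ∨ x' = 0 := by
    by_contra hc
    push Not at hc
    obtain ⟨u, hu⟩ : 2 ∣ a := e ▸ dvd_mul_of_dvd_left (dvd_pow_self 2 hc.1) _
    obtain ⟨w, hw⟩ : 2 ∣ a + 1 := e' ▸ dvd_mul_of_dvd_left (dvd_pow_self 2 hc.2) _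
    omega
  have hq' : y = 0 ∨ y' = 0 := by
    by_contra hc
    push Not at hc
    have h1 : q ∣ a := e ▸ dvd_mul_of_dvd_right (dvd_pow_self q hc.1) _
    have h1' : q ∣ a + 1 := e' ▸ dvd_mul_of_dvd_right (dvd_pow_self q hc.2) _
    exact hq.one_lt.ne' (Nat.dvd_one.1 ((Nat.dvd_add_right h1).1 h1'))
  rcases h2 with h | h <;> rcases hq' with h' | h' <;> subst h h' <;>
    simp only [pow_zero, mul_one, one_mul] at e e'
  · left; omega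
  · exact Or.inr (Or.inr ⟨x', y, e, e'⟩)
  · exact Or.inr (Or.inl ⟨x, y', e, e'⟩)
  · left; omega

theorem consecutive_two_three {a i j k : ℕ} (h5 : ¬ 5 ∣ a) (h5' : ¬ 5 ∣ a + 1)
    (ha : a ∣ 2 ^ i * 3 ^ j * 5 ^ k) (ha' : a + 1 ∣ 2 ^ i * 3 ^ j * 5 ^ k) :
    a ≤ 3 ∨ a = 8 := by
  rcases consecutive Nat.prime_three (by norm_num) h5 h5' ha ha' with h | ⟨x, y, e, e'⟩ | ⟨x, y, e, e'⟩
  · omega
  · have := two_pow_add_one (i := x) (j := y) (by omega); omega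
  · have := three_pow_add_one (i := x) (j := y) (by omega); omega

theorem consecutive_two_five {a i j k : ℕ} (h3 : ¬ 3 ∣ a) (h3' : ¬ 3 ∣ a + 1)
    (ha : a ∣ 2 ^ i * 3 ^ j * 5 ^ k) (ha' : a + 1 ∣ 2 ^ i * 3 ^ j * 5 ^ k) : a ≤ 1 ∨ a = 4 := by
  have e : (2 : ℕ) ^ i * 3 ^ j * 5 ^ k = 2 ^ i * 5 ^ k * 3 ^ j := by ring
  rw [e] at ha ha'
  rcases consecutive (by norm_num : (5 : ℕ).Prime) Nat.prime_three h3 h3' ha ha' with
    h | ⟨x, y, e, e'⟩ | ⟨x, y, e, e'⟩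
  · omega
  · have := two_pow_add_one' (i := x) (j := y) (by omega); omega
  · have := five_pow_add_one (i := x) (j := y) (by omega); omega

theorem two_three_inj {a b c d : ℕ} (h : 2 ^ a * 3 ^ b = 2 ^ c * 3 ^ d) : a = c ∧ b = d := by
  have key : ∀ x y : ℕ, (2 ^ x * 3 ^ y).factorization 2 = x ∧ (2 ^ x * 3 ^ y).factorization 3 = y := by
    intro x y
    rw [Nat.factorization_mul (by positivity) (by positivity), Nat.prime_two.factorization_pow,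
      Nat.prime_three.factorization_pow]
    simp
  exact ⟨by rw [← (key a b).1, h, (key c d).1], by rw [← (key a b).2, h, (key c d).2]⟩

end Cfsg.Agent.OrderFive
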