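import Cfsg.Agent.Lib.Transfer.HallWielandt
import Cfsg.Agent.Lib.Transfer.Fusion

/-!
# A Sylow subgroup of prime exponent is not self-normalising in a perfect group
-/

set_option autoImplicit false
set_option linter.style.haveILetI false

namespace Cfsg.Agent.OrderFive

open Subgroup

universe u

variable {G : Type u} [Group G] {p : ℕ}

/-- For `z` with `z ^ p = 1` the conjugates of `y` by the powers of `z` multiply to `(y z⁻¹) ^ p`. -/
theorem addOn_sum_conj {N : Subgroup G} {θ : G → ZMod p} (hθ : Transfer.Yoshida.AddOn N θ) {y z : G}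
    (hconj : ∀ i : ℕ, (z ^ i)⁻¹ * y * z ^ i ∈ N) :
    ∀ k : ℕ, (y * z⁻¹) ^ k * z ^ k ∈ N ∧
      θ ((y * z⁻¹) ^ k * z ^ k) = ∑ i ∈ Finset.range k, θ ((z ^ i)⁻¹ * y * z ^ i)
  | 0 => by simp [hθ.map_one]
  | k + 1 => by
    obtain ⟨h1, h2⟩ := addOn_sum_conj hθ hconj k
    have e : (y * z⁻¹) ^ (k + 1) * z ^ (k + 1) =
        ((y * z⁻¹) ^ k * z ^ k) * ((z ^ k)⁻¹ * y * z ^ k) := by
      rw [pow_succ, pow_succ']; group
    rw [e, Finset.sum_range_succ, ← h2]
    exact ⟨mul_mem h1 (hconj k), hθ _ h1 _ (hconj k)⟩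

/-- In a perfect group a nontrivial Sylow subgroup of exponent `p` is not self-normalising. -/
theorem normalizer_ne_of_exponent [Finite G] [Fact p.Prime] (hperf : _root_.commutator G = ⊤)
    (P : Sylow p G) (hexp : ∀ x ∈ (P : Subgroup G), x ^ p = 1) (hne : (P : Subgroup G) ≠ ⊥) :
    normalizer ((P : Subgroup G) : Set G) ≠ (P : Subgroup G) := by
  intro hN
  rcases Transfer.step_or_control P (Transfer.isWeaklyClosed_self (P : Subgroup G)) with
    ⟨⟨st⟩⟩ | ⟨-, h2⟩
  · obtain ⟨-, h⟩ := addOn_sum_conj st.addOn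
      (fun i => st.conj_mem (pow_mem st.z_mem_T i) st.y_mem) p
    refine st.sum_ne ?_
    rw [← h, hexp _ (mul_mem (st.T_le (st.le_T st.y_mem)) (inv_mem st.z_mem)), hexp _ st.z_mem,
      one_mul, st.addOn.map_one]
  rw [hperf, inf_top_eq, hN] at h2
  have hP : ⁅(P : Subgroup G), (P : Subgroup G)⁆ = (P : Subgroup G) :=
    le_antisymm (Subgroup.commutator_le.2 fun a ha b hb => mul_mem (mul_mem (mul_mem ha hb)
      (inv_mem ha)) (inv_mem hb)) (h2.le.trans inf_le_right)
  haveI := Subgroup.nontrivial_iff_ne_bot (P : Subgroup G) |>.2 hne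
  haveI : Group.IsNilpotent (P : Subgroup G) := P.isPGroup'.isNilpotent
  have hlt : _root_.commutator (P : Subgroup G) < ⊤ :=
    Group.IsSolvable.commutator_lt_top_of_nontrivial _
  refine hlt.ne (Subgroup.map_injective (P : Subgroup G).subtype_injective ?_)
  rw [← MonoidHom.range_eq_map, Subgroup.range_subtype, commutator_def, Subgroup.map_commutator,
    ← MonoidHom.range_eq_map, Subgroup.range_subtype, hP]

end Cfsg.Agent.OrderFive
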