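import Mathlib
import Cfsg.Agent.Lib.OrderFive.Basic
import Cfsg.Agent.Lib.OrderFive.ExponentTransfer
import Cfsg.Agent.Lib.CharInt.Burnside
import Cfsg.Agent.Lib.SmallSimple.Tools

/-!
# Simple groups with element orders at most five: Sylow subgroups of odd order
-/

set_option autoImplicit false
set_option linter.style.haveILetI false
set_option linter.unusedSectionVars false

namespace Cfsg.Agent.OrderFive

open Subgroup
open scoped commutatorElement

universe u

variable {G : Type u} [Group G] [Finite G]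

/-- An abelian subgroup equal to the centralisers of its nontrivial elements and inverted by an
involution. -/
structure Inverted (H : Subgroup G) (v : G) : Prop where
  cent : ∀ y ∈ H, y ≠ 1 → centralizer ({y} : Set G) = H
  invol : orderOf v = 2
  inv : ∀ b ∈ H, v * b * v⁻¹ = b⁻¹

theorem not_comm [IsSimpleGroup G] (h : Small G) (hG : ¬ IsMulCommutative G) :
    2 ∣ Nat.card G ∧ 3 ∣ Nat.card G ∧ 5 ∣ Nat.card G := by
  have key : ∀ r q₁ q₂ : ℕ, q₁.Prime → q₂.Prime → q₁ ≠ q₂ →
      (∀ q, q = 2 ∨ q = 3 ∨ q = 5 → q ≠ r → q = q₁ ∨ q = q₂) → r ∣ Nat.card G := by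
    intro r q₁ q₂ h₁ h₂ h₁₂ hq
    by_contra hr
    have hn : Nat.card G ≠ 0 := Nat.card_pos.ne'
    have hsub : (Nat.card G).primeFactors ⊆ {q₁, q₂} := fun q hq' => by
      obtain ⟨hp, hd, -⟩ := Nat.mem_primeFactors.1 hq'
      rcases hq q (h.prime_cases hp hd) (fun e => hr (e ▸ hd)) with e | e <;> simp [e]
    have hprod := Nat.prod_factorization_pow_eq_self hn
    rw [Finsupp.prod_of_support_subset (s := {q₁, q₂}) _ (by rwa [Nat.support_factorization]) _
      (fun _ _ => pow_zero _), Finset.prod_pair h₁₂] at hprod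
    have hs := CharInt.isSolvable_of_card_eq h₁ h₂ (G := G) hprod.symm
    exact hG ⟨⟨fun a b => (IsSimpleGroup.comm_iff_isSolvable.2 hs) a b⟩⟩
  exact ⟨key 2 3 5 Nat.prime_three (by norm_num) (by norm_num) (by omega),
    key 3 2 5 Nat.prime_two (by norm_num) (by norm_num) (by omega),
    key 5 2 3 Nat.prime_two Nat.prime_three (by norm_num) (by omega)⟩

theorem orderOf_eq_of_mem (h : Small G) {p : ℕ} [hp : Fact p.Prime] (h3 : 3 ≤ p) {H : Subgroup G}
    (hH : IsPGroup p H) {y : G} (hy : y ∈ H) (hy1 : y ≠ 1) : orderOf y = p := by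
  obtain ⟨k, hk⟩ := IsPGroup.iff_orderOf.1 hH ⟨y, hy⟩
  rw [← Subgroup.orderOf_coe] at hk
  have hle := h y
  rcases (show k = 0 ∨ k = 1 ∨ 2 ≤ k by omega) with e | e | e
  · exact absurd (orderOf_eq_one_iff.1 (by simpa [e] using hk)) hy1
  · simpa [e] using hk
  · have : p ^ 2 ≤ p ^ k := Nat.pow_le_pow_right hp.out.pos e
    have : 9 ≤ p ^ 2 := by nlinarith
    simp only at hk hle
    omega

theorem sylow_ne_bot {p : ℕ} [Fact p.Prime] (P : Sylow p G) (hd : p ∣ Nat.card G) :
    (P : Subgroup G) ≠ ⊥ := P.ne_bot_of_dvd_card hd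

theorem centralizer_eq_of_central (h : Small G) {p : ℕ} [hp : Fact p.Prime] (P : Sylow p G) {z : G}
    (hz : orderOf z = p) (hle : (P : Subgroup G) ≤ centralizer ({z} : Set G)) :
    centralizer ({z} : Set G) = (P : Subgroup G) :=
  P.is_maximal' (h.centralizer_isPGroup hp.out hz) hle

theorem exists_central {p : ℕ} [hp : Fact p.Prime] {P : Subgroup G} (hP : IsPGroup p P) (hne : P ≠ ⊥) :
    ∃ z ∈ P, orderOf z = p ∧ P ≤ centralizer ({z} : Set G) := by
  haveI := (Subgroup.nontrivial_iff_ne_bot P).2 hne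
  haveI := hP.center_nontrivial
  obtain ⟨k, hk⟩ := (hP.to_subgroup (center P)).exists_card_eq
  obtain ⟨z, hz⟩ := exists_prime_orderOf_dvd_card' (G := center P) p (by
    have : 1 < Nat.card (center P) := Finite.one_lt_card
    rw [hk] at this ⊢
    exact dvd_pow_self p (fun h0 => by rw [h0] at this; simp at this))
  refine ⟨((z : P) : G), (z : P).2, by rw [Subgroup.orderOf_coe, Subgroup.orderOf_coe, hz],
    fun x hx => mem_centralizer_singleton_iff.2 ?_⟩
  exact congrArg Subtype.val (mem_center_iff.1 z.2 ⟨x, hx⟩)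

theorem Small.exists_inverted_three [IsSimpleGroup G] (h : Small G) (hG : ¬ IsMulCommutative G)
    [Fact (Nat.Prime 3)] (A : Sylow 3 G) : ∃ v, Inverted (A : Subgroup G) v := by
  obtain ⟨h2, h3, -⟩ := not_comm h hG
  haveI := Fact.mk Nat.prime_two
  obtain ⟨z, hzA, hz, hle⟩ := exists_central A.isPGroup' (sylow_ne_bot A h3)
  have hAC := centralizer_eq_of_central h A hz hle
  obtain ⟨u, hu⟩ := exists_prime_orderOf_dvd_card' (G := G) 2 h2
  obtain ⟨v, huv, hv⟩ := h.exists_inverts_centralizer hu hz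
  refine ⟨v, fun y hy hy1 => ?_, (orderOf_of_isConj huv).trans hu, fun b hb => hv b (hAC ▸ hb)⟩
  refine centralizer_eq_of_central h A (orderOf_eq_of_mem h le_rfl A.isPGroup' hy hy1) fun x hx => ?_
  exact mem_centralizer_singleton_iff.2 (h.comm_centralizer_three h2 hz (hAC ▸ hx) (hAC ▸ hy))

theorem Inverted.isMulCommutative {H : Subgroup G} {v : G} (hH : Inverted H v) {a b : G} (ha : a ∈ H)
    (hb : b ∈ H) : a * b = b * a := comm_of_inverts hH.inv ha hb

theorem Inverted.mem_normalizer {H : Subgroup G} {v : G} (hH : Inverted H v) :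
    v ∈ normalizer (H : Set G) := by
  have hvi := inv_of_orderOf hH.invol
  refine mem_normalizer_iff.2 fun b => ⟨fun hb => hH.inv b hb ▸ inv_mem hb, fun hb => ?_⟩
  have := hH.inv _ hb
  rw [show v * (v * b * v⁻¹) * v⁻¹ = (v * v) * b * (v * v)⁻¹ by group,
    mul_self_of_orderOf hH.invol] at this
  simp only [inv_one, one_mul, mul_one] at this
  rw [this]; exact inv_mem hb

theorem Inverted.two_dvd_relIndex {H : Subgroup G} {v : G} (hH : Inverted H v) (hodd : Odd (Nat.card H)) :
    2 ∣ H.relIndex (normalizer (H : Set G)) := by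
  have h2 : 2 ∣ Nat.card (normalizer (H : Set G)) := by
    rw [← hH.invol, ← Subgroup.orderOf_mk v hH.mem_normalizer]
    exact orderOf_dvd_natCard _
  rw [← Subgroup.card_mul_index (H.subgroupOf (normalizer (H : Set G))),
    Nat.card_congr (subgroupOfEquivOfLe le_normalizer).toEquiv] at h2
  exact (Nat.Coprime.dvd_of_dvd_mul_left (Nat.coprime_two_left.2 hodd) h2)

theorem odd_card_sylow {p : ℕ} [hp : Fact p.Prime] (h3 : 3 ≤ p) (P : Sylow p G) :
    Odd (Nat.card (P : Subgroup G)) := by
  obtain ⟨k, hk⟩ := P.isPGroup'.exists_card_eq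
  rw [hk]
  exact (hp.out.odd_of_ne_two (by omega)).pow

theorem card_normalizer_eq {p : ℕ} (P : Sylow p G) :
    Nat.card (normalizer ((P : Subgroup G) : Set G)) =
      (P : Subgroup G).relIndex (normalizer ((P : Subgroup G) : Set G)) * Nat.card (P : Subgroup G) := by
  rw [← Subgroup.card_mul_index ((P : Subgroup G).subgroupOf (normalizer ((P : Subgroup G) : Set G))),
    Nat.card_congr (subgroupOfEquivOfLe le_normalizer).toEquiv, mul_comm]
  rfl

theorem Small.relIndex_five_ne_one [IsSimpleGroup G] (h : Small G) (hG : ¬ IsMulCommutative G)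
    [Fact (Nat.Prime 5)] (P : Sylow 5 G) :
    (P : Subgroup G).relIndex (normalizer ((P : Subgroup G) : Set G)) ≠ 1 := by
  obtain ⟨-, -, h5⟩ := not_comm h hG
  intro h1
  refine normalizer_ne_of_exponent ?_ P (fun x hx => ?_) (sylow_ne_bot P h5)
    (le_antisymm (Subgroup.relIndex_eq_one.1 h1) le_normalizer)
  · refine (IsSimpleGroup.eq_bot_or_eq_top_of_normal (_root_.commutator G) inferInstance).resolve_left
      fun hb => hG ⟨⟨fun a b => ?_⟩⟩
    have hm : ⁅a, b⁆ ∈ _root_.commutator G :=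
      Subgroup.commutator_mem_commutator (Subgroup.mem_top a) (Subgroup.mem_top b)
    rw [hb, Subgroup.mem_bot] at hm
    exact commutatorElement_eq_one_iff_mul_comm.1 hm
  · by_cases hx1 : x = 1
    · simp [hx1]
    · rw [← orderOf_eq_of_mem h (by norm_num) P.isPGroup' hx hx1, pow_orderOf_eq_one]

/-- An involution normalising a subgroup of exponent five makes it an inverted subgroup. -/
theorem Small.exists_inverted_five (h : Small G) [Fact (Nat.Prime 5)] (P : Sylow 5 G)
    (h2 : 2 ∣ (P : Subgroup G).relIndex (normalizer ((P : Subgroup G) : Set G))) :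
    ∃ v, Inverted (P : Subgroup G) v := by
  haveI := Fact.mk Nat.prime_two
  obtain ⟨v, hv⟩ := exists_prime_orderOf_dvd_card' (G := normalizer ((P : Subgroup G) : Set G)) 2
    (by rw [card_normalizer_eq]; exact dvd_mul_of_dvd_left h2 _)
  rw [← Subgroup.orderOf_coe] at hv
  have hinv : ∀ b ∈ (P : Subgroup G), (v : G) * b * (v : G)⁻¹ = b⁻¹ := by
    refine inverts_of_fpf (mul_self_of_orderOf hv)
      (fun c hc => (mem_normalizer_iff.1 v.2 c).1 hc) fun c hc hfix => ?_
    obtain ⟨k, hk⟩ := IsPGroup.iff_orderOf.1 P.isPGroup' ⟨c, hc⟩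
    rw [← Subgroup.orderOf_coe] at hk
    exact h.eq_one_of_fix hv (Fact.out : (5 : ℕ).Prime) (by norm_num) hk (mul_inv_eq_iff_eq_mul.1 hfix)
  refine ⟨v, fun y hy hy1 => ?_, hv, hinv⟩
  refine centralizer_eq_of_central h P (orderOf_eq_of_mem h (by norm_num) P.isPGroup' hy hy1) fun x hx => ?_
  exact mem_centralizer_singleton_iff.2 (comm_of_inverts hinv hx hy)

end Cfsg.Agent.OrderFive
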