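import Mathlib
import Cfsg.Agent.Lib.CharInt.Central
import Cfsg.Agent.Lib.PGroup.Basic

/-!
# 2-groups of exponent four: an involution with centraliser of index at most two
-/

set_option autoImplicit false
set_option linter.style.haveILetI false

namespace Cfsg.Agent.OrderFive

open Subgroup

universe u

variable {S : Type u} [Group S] [Finite S]

/-- If every conjugate of `v` is one of two elements, its centraliser has index at most two. -/
theorem card_le_two_mul_centralizer {v v' : S} (h : ∀ s : S, s * v * s⁻¹ = v ∨ s * v * s⁻¹ = v') :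
    Nat.card S ≤ 2 * Nat.card (centralizer ({v} : Set S)) := by
  classical
  rw [← Subgroup.card_mul_index (centralizer ({v} : Set S)), mul_comm 2]
  refine Nat.mul_le_mul_left _ ?_
  rw [← CharInt.natCard_isConj]
  have hsub : {y : S | IsConj v y} ⊆ {v, v'} := fun y hy => by
    obtain ⟨s, rfl⟩ := isConj_iff.1 hy
    rcases h s with e | e <;> simp [e]
  refine le_trans ?_ ((Set.ncard_insert_le v {v'}).trans (by rw [Set.ncard_singleton]))
  exact (Nat.card_coe_set_eq {y : S | IsConj v y}).trans_le (Set.ncard_le_ncard hsub (Set.toFinite _))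

theorem orderOf_eq_two_of {v : S} (h1 : v ≠ 1) (h2 : v * v = 1) : orderOf v = 2 :=
  orderOf_eq_prime (by rw [pow_two]; exact h2) h1

variable (hS : IsPGroup 2 S)

include hS in
/-- A nontrivial normal subgroup of a quotient meets the centre in an element of order two. -/
theorem exists_lift_central (W C : Subgroup S) [W.Normal] [C.Normal] (h : ¬ C ≤ W) :
    ∃ c ∈ C, c ∉ W ∧ c * c ∈ W ∧ ∀ s : S, s * c * s⁻¹ * c⁻¹ ∈ W := by
  haveI := Fact.mk Nat.prime_two
  have hQ : IsPGroup 2 (S ⧸ W) := hS.to_quotient W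
  haveI : (C.map (QuotientGroup.mk' W)).Normal :=
    Subgroup.Normal.map inferInstance _ (QuotientGroup.mk'_surjective W)
  have hne : C.map (QuotientGroup.mk' W) ≠ ⊥ := fun hb => h (by
    rwa [Subgroup.map_eq_bot_iff, QuotientGroup.ker_mk'] at hb)
  set K := C.map (QuotientGroup.mk' W) ⊓ center (S ⧸ W) with hK
  have hKne : K ≠ ⊥ := PGroup.inf_center_ne_bot hQ _ hne
  obtain ⟨z, hz⟩ : ∃ z : K, orderOf z = 2 := by
    obtain ⟨n, hn⟩ := (hQ.to_subgroup K).exists_card_eq
    refine exists_prime_orderOf_dvd_card' 2 ?_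
    have : 1 < Nat.card K := Finite.one_lt_card_iff_nontrivial.2 (Subgroup.nontrivial_iff_ne_bot K |>.2 hKne)
    rw [hn] at this ⊢
    exact dvd_pow_self 2 (fun h0 => by rw [h0] at this; simp at this)
  obtain ⟨c, hcC, hcz⟩ := Subgroup.mem_map.1 (Subgroup.mem_inf.1 z.2).1
  have hzc := Subgroup.mem_center_iff.1 (Subgroup.mem_inf.1 z.2).2
  rw [← Subgroup.orderOf_coe, ← hcz] at hz
  refine ⟨c, hcC, fun hc => ?_, ?_, fun s => ?_⟩
  · rw [QuotientGroup.mk'_apply, (QuotientGroup.eq_one_iff c).2 hc, orderOf_one] at hz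
    omega
  · rw [← QuotientGroup.eq_one_iff, QuotientGroup.mk_mul, ← pow_two, ← hz, QuotientGroup.mk'_apply,
      pow_orderOf_eq_one]
  · rw [← QuotientGroup.eq_one_iff, QuotientGroup.mk_mul, QuotientGroup.mk_mul, QuotientGroup.mk_mul,
      QuotientGroup.mk_inv, QuotientGroup.mk_inv]
    have := hzc (s : S ⧸ W)
    rw [← hcz, QuotientGroup.mk'_apply] at this
    rw [this, mul_inv_cancel_right, mul_inv_cancel]

include hS in
/-- A 2-group of exponent four with central involution `u` and a further involution has an involution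
`v ≠ u` whose centraliser has index at most two. -/
theorem exists_large_centralizer (h4 : ∀ x : S, x ^ 4 = 1) {u : S} (hu : orderOf u = 2)
    (huc : ∀ s : S, Commute s u) {t : S} (ht : orderOf t = 2) (htu : t ≠ u) :
    ∃ v : S, orderOf v = 2 ∧ v ≠ u ∧ Nat.card S ≤ 2 * Nat.card (centralizer ({v} : Set S)) := by
  classical
  have hu2 : u * u = 1 := by rw [← pow_two, ← hu, pow_orderOf_eq_one]
  have hu1 : u ≠ 1 := fun h => by rw [h, orderOf_one] at hu; omega
  have hui : u⁻¹ = u := inv_eq_of_mul_eq_one_right hu2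
  set W := zpowers u with hW
  haveI : W.Normal := ⟨fun a ha s => by
    obtain ⟨k, rfl⟩ := Subgroup.mem_zpowers_iff.1 ha
    rw [((huc s).zpow_right k).eq, mul_inv_cancel_right]
    exact ha⟩
  have hWmem : ∀ a : S, a ∈ W ↔ a = 1 ∨ a = u := fun a => by
    constructor
    · intro ha
      obtain ⟨k, rfl⟩ := Subgroup.mem_zpowers_iff.1 ha
      rw [← zpow_mod_orderOf, hu]
      rcases (show k % ((2 : ℕ) : ℤ) = 0 ∨ k % ((2 : ℕ) : ℤ) = 1 by omega) with e | e <;> rw [e] <;> simp
    · rintro (rfl | rfl)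
      · exact one_mem _
      · exact mem_zpowers _
  have htW : t ∉ W := fun h => by
    rcases (hWmem t).1 h with e | e
    · rw [e, orderOf_one] at ht; omega
    · exact htu e
  obtain ⟨w, -, hwW, hw2, hwc⟩ := exists_lift_central hS W ⊤ fun h => htW (h trivial)
  have hw1 : w ≠ 1 := fun h => hwW (h ▸ one_mem W)
  have hconj : ∀ s : S, s * w * s⁻¹ = w ∨ s * w * s⁻¹ = u * w := fun s => by
    rcases (hWmem _).1 (hwc s) with e | e
    · exact Or.inl (mul_inv_eq_one.1 e)
    · exact Or.inr (mul_inv_eq_iff_eq_mul.1 e)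
  have hwu : w ≠ u := fun h => hwW (h ▸ mem_zpowers u)
  rcases (hWmem _).1 hw2 with hww | hww
  · exact ⟨w, orderOf_eq_two_of hw1 hww, hwu, card_le_two_mul_centralizer hconj⟩
  set C := centralizer ({w} : Set S) with hC
  haveI hCn : C.Normal := ⟨fun a ha s => by
    rw [hC, mem_centralizer_singleton_iff] at ha ⊢
    have hs : Commute a (s⁻¹ * w * s) := by
      rcases hconj s⁻¹ with e | e <;> rw [inv_inv] at e <;> rw [e]
      · exact ha
      · exact (huc a).mul_right ha
    calc s * a * s⁻¹ * w = s * (a * (s⁻¹ * w * s)) * s⁻¹ := by group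
      _ = s * ((s⁻¹ * w * s) * a) * s⁻¹ := by rw [hs.eq]
      _ = w * (s * a * s⁻¹) := by group⟩
  set W2 := zpowers w with hW2
  have hW2C : W2 ≤ C := zpowers_le.2 (mem_centralizer_singleton_iff.2 rfl)
  have hS2C : Nat.card S ≤ 2 * Nat.card C := card_le_two_mul_centralizer hconj
  have hw4 : orderOf w = 4 := by
    refine orderOf_eq_prime_pow (p := 2) (n := 1) (fun h => hu1 ?_) (h4 w)
    rw [← hww, ← pow_two]; exact h
  by_cases hCW : C ≤ W2
  · refine ⟨t, ht, htu, ?_⟩
    have hcC : Nat.card C ≤ 4 := by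
      rw [← hw4, ← Nat.card_zpowers]; exact card_le_of_le hCW
    have h4' : 4 ≤ Nat.card (centralizer ({t} : Set S)) := by
      have hmem : (({1, u, t, u * t} : Finset S) : Set S) ⊆ centralizer ({t} : Set S) := by
        have hct : t ∈ centralizer ({t} : Set S) := mem_centralizer_singleton_iff.2 rfl
        have hcu : u ∈ centralizer ({t} : Set S) := mem_centralizer_singleton_iff.2 (huc t).symm.eq
        intro a ha
        simp only [Finset.coe_insert, Finset.coe_singleton, Set.mem_insert_iff,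
          Set.mem_singleton_iff] at ha
        rcases ha with rfl | rfl | rfl | rfl
        exacts [one_mem _, hcu, hct, mul_mem hcu hct]
      have ht1 : t ≠ 1 := fun h => by rw [h, orderOf_one] at ht; omega
      have hcard : ({1, u, t, u * t} : Finset S).card = 4 := by
        have e1 : (1 : S) ≠ u * t := fun h => htu (by
          have := (mul_eq_one_iff_inv_eq.1 h.symm).symm
          rwa [hui] at this)
        have e2 : u ≠ u * t := fun h => ht1 (left_eq_mul.1 h)
        have e3 : t ≠ u * t := fun h => hu1 (right_eq_mul.1 h)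
        rw [Finset.card_insert_of_notMem (by simp [hu1.symm, ht1.symm, e1]),
          Finset.card_insert_of_notMem (by simp [htu.symm, e2]),
          Finset.card_insert_of_notMem (by simp [e3]), Finset.card_singleton]
      rw [← hcard, ← Set.ncard_coe_finset]
      exact (Set.ncard_le_ncard hmem (Set.toFinite _)).trans_eq (Nat.card_coe_set_eq _).symm
    omega
  haveI : W2.Normal := ⟨fun a ha s => by
    obtain ⟨k, rfl⟩ := Subgroup.mem_zpowers_iff.1 ha
    rw [← conj_zpow]
    refine zpow_mem ?_ k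
    rcases hconj s with e | e <;> rw [e]
    · exact mem_zpowers w
    · rw [← hww]; exact mul_mem (mul_mem (mem_zpowers w) (mem_zpowers w)) (mem_zpowers w)⟩
  obtain ⟨c, hcC, hcW, hc2, hcc⟩ := exists_lift_central hS W2 C hCW
  have hwinv : w⁻¹ = u * w := by
    refine inv_eq_of_mul_eq_one_right ?_
    rw [← mul_assoc, (huc w).eq, mul_assoc, hww, hu2]
  have hmem : ∀ a ∈ W2, a = 1 ∨ a = u ∨ a = w ∨ a = u * w := fun a ha => by
    obtain ⟨k, rfl⟩ := Subgroup.mem_zpowers_iff.1 ha
    rw [← zpow_mod_orderOf, hw4]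
    rcases (show k % ((4 : ℕ) : ℤ) = 0 ∨ k % ((4 : ℕ) : ℤ) = 1 ∨ k % ((4 : ℕ) : ℤ) = 2 ∨
      k % ((4 : ℕ) : ℤ) = 3 by omega) with e | e | e | e <;> rw [e]
    · simp
    · simp
    · exact Or.inr (Or.inl ((zpow_two w).trans hww))
    · refine Or.inr (Or.inr (Or.inr ?_))
      rw [show (3 : ℤ) = 2 + 1 from rfl, zpow_add, zpow_two, zpow_one, hww]
  have hcw : Commute c w := mem_centralizer_singleton_iff.1 hcC
  -- an involution in the coset
  obtain ⟨v, hvC, hvW, hvv, hvc⟩ : ∃ v ∈ C, v ∉ W2 ∧ v * v = 1 ∧ ∀ s : S, s * v * s⁻¹ * v⁻¹ ∈ W2 := by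
    have hc4 : c * c * (c * c) = 1 := by
      rw [← h4 c, pow_succ, pow_succ, pow_two, mul_assoc]
      simp only [mul_assoc]
    rcases hmem _ hc2 with e | e | e | e
    · exact ⟨c, hcC, hcW, e, hcc⟩
    · refine ⟨c * w, mul_mem hcC (hW2C (mem_zpowers w)), fun h => hcW ?_, ?_, fun s => ?_⟩
      · simpa using mul_mem h (inv_mem (mem_zpowers w))
      · rw [show c * w * (c * w) = c * (w * c) * w by group, ← hcw.eq,
          show c * (c * w) * w = (c * c) * (w * w) by group, e, hww, hu2]
      · rw [show s * (c * w) * s⁻¹ * (c * w)⁻¹ = (s * c * s⁻¹) * ((s * w * s⁻¹ * w⁻¹) * c⁻¹) by group]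
        have h1 : s * w * s⁻¹ * w⁻¹ ∈ W2 := by
          rcases (hWmem _).1 (hwc s) with e' | e' <;> rw [e']
          · exact one_mem _
          · rw [← hww]; exact mul_mem (mem_zpowers w) (mem_zpowers w)
        have h2 := mul_mem (hcc s) (Subgroup.Normal.conj_mem inferInstance _ h1 c)
        convert h2 using 1
        group
    all_goals
      exfalso
      rw [e] at hc4
      refine hu1 ?_
      rw [← hc4]
    · exact hww.symm
    · rw [show u * w * (u * w) = u * (w * u) * w by group, (huc w).eq,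
        show u * (u * w) * w = (u * u) * (w * w) by group, hu2, one_mul, hww]
  have hv1 : v ≠ 1 := fun h => hvW (h ▸ one_mem _)
  have huW2 : u ∈ W2 := hww ▸ mul_mem (mem_zpowers w) (mem_zpowers w)
  refine ⟨v, orderOf_eq_two_of hv1 hvv, fun h => hvW (h ▸ huW2), ?_⟩
  refine card_le_two_mul_centralizer (v' := u * v) fun s => ?_
  have hsq : (s * v * s⁻¹ * v⁻¹) * (s * v * s⁻¹ * v⁻¹) = 1 := by
    have hcomm : Commute (s * v * s⁻¹ * v⁻¹) v := by
      rcases hmem _ (hvc s) with e | e | e | e <;> rw [e]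
      · exact Commute.one_left _
      · exact (huc v).symm
      · exact (mem_centralizer_singleton_iff.1 hvC : Commute v w).symm
      · exact (huc v).symm.mul_left (mem_centralizer_singleton_iff.1 hvC : Commute v w).symm
    have h1 : (s * v * s⁻¹) * (s * v * s⁻¹) = 1 := by
      rw [show (s * v * s⁻¹) * (s * v * s⁻¹) = s * (v * v) * s⁻¹ by group, hvv]; group
    set d := s * v * s⁻¹ * v⁻¹ with hd
    have hdv : s * v * s⁻¹ = d * v := by rw [hd]; group
    rw [hdv, show d * v * (d * v) = d * (v * d) * v by group, ← hcomm.eq,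
      show d * (d * v) * v = (d * d) * (v * v) by group, hvv, mul_one] at h1
    exact h1
  rcases hmem _ (hvc s) with e | e | e | e
  · exact Or.inl (mul_inv_eq_one.1 e)
  · exact Or.inr (mul_inv_eq_iff_eq_mul.1 e)
  · rw [e, hww] at hsq; exact absurd hsq hu1
  · rw [e, show u * w * (u * w) = u * (w * u) * w by group, (huc w).eq,
      show u * (u * w) * w = (u * u) * (w * w) by group, hu2, one_mul, hww] at hsq
    exact absurd hsq hu1

end Cfsg.Agent.OrderFive
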