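import Mathlib
import Cfsg.Agent.Lib.OrderFive.Sylow
import Cfsg.Agent.Lib.OrderFive.TwoGroup
import Cfsg.Agent.Lib.SmallSimple.Basic
import Cfsg.Agent.Lib.ZStar.Main
import Cfsg.Agent.Lib.PCore.Basic

/-!
# Simple groups with element orders at most five: one odd Sylow normaliser has index two

Otherwise the Sylow subgroups leave more than five twelfths of the group to the elements of order two
and four, and then the centraliser of an involution has more square roots of each of three commuting
involutions than it can hold.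
-/

set_option autoImplicit false
set_option linter.style.haveILetI false
set_option linter.unusedSectionVars false

namespace Cfsg.Agent.OrderFive

open Subgroup
open scoped Classical

universe u

variable {G : Type u} [Group G] [Fintype G]

/-- The elements of order `n`. -/
noncomputable def ofOrder (G : Type u) [Group G] [Fintype G] (n : ℕ) : Finset G :=
  Finset.univ.filter fun g => orderOf g = n

/-- The square roots of an element. -/
noncomputable def sqrts (w : G) : Finset G := Finset.univ.filter fun x => x * x = w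

/-- A bound for the number of elements of order `p`. -/
theorem mul_card_ofOrder_le {p : ℕ} [hp : Fact p.Prime] (E : ℕ)
    (hE : ∀ P : Sylow p G, E ≤ (P : Subgroup G).relIndex (normalizer ((P : Subgroup G) : Set G))) :
    E * (ofOrder G p).card + E ≤ Nat.card G := by
  obtain ⟨P⟩ : Nonempty (Sylow p G) := inferInstance
  have hcard : ∀ Q : Sylow p G, Nat.card (Q : Subgroup G) = Nat.card (P : Subgroup G) := fun Q => by
    rw [Sylow.card_eq_multiplicity, Sylow.card_eq_multiplicity]
  set m := Nat.card (P : Subgroup G) with hm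
  have hsub : ofOrder G p ⊆ (Finset.univ : Finset (Sylow p G)).biUnion
      fun Q => (((Q : Subgroup G) : Set G).toFinset).erase 1 := fun g hg => by
    have hg' : orderOf g = p := (Finset.mem_filter.1 hg).2
    obtain ⟨Q, hQ⟩ := IsPGroup.exists_le_sylow
      (IsPGroup.of_card (p := p) (n := 1) (by rw [Nat.card_zpowers, hg', pow_one]) : IsPGroup p (zpowers g))
    refine Finset.mem_biUnion.2 ⟨Q, Finset.mem_univ _, Finset.mem_erase.2 ⟨fun h => ?_, ?_⟩⟩
    · rw [h, orderOf_one] at hg'; exact hp.out.one_lt.ne hg'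
    · exact Set.mem_toFinset.2 (hQ (mem_zpowers g))
  have hle : (ofOrder G p).card ≤ Nat.card (Sylow p G) * (m - 1) := by
    refine (Finset.card_le_card hsub).trans (Finset.card_biUnion_le.trans ?_)
    rw [Nat.card_eq_fintype_card, ← Finset.card_univ, ← smul_eq_mul, ← Finset.sum_const]
    refine Finset.sum_le_sum fun Q _ => le_of_eq ?_
    rw [Finset.card_erase_of_mem (Set.mem_toFinset.2 (one_mem _)), Set.toFinset_card,
      ← Nat.card_eq_fintype_card, SetLike.coe_sort_coe, hcard Q]
  have hg := SmallSimple.card_sylow_mul_card_normalizer P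
  rw [card_normalizer_eq, ← hm] at hg
  have hm0 : 1 ≤ m := Nat.card_pos
  set n := Nat.card (Sylow p G)
  have hn : 1 ≤ n := Nat.card_pos
  set e := (P : Subgroup G).relIndex (normalizer ((P : Subgroup G) : Set G))
  have he : E ≤ e := hE P
  obtain ⟨m', hm'⟩ : ∃ k, m = k + 1 := ⟨m - 1, by omega⟩
  rw [hm', Nat.add_sub_cancel] at hle
  rw [hm'] at hg
  calc E * (ofOrder G p).card + E ≤ e * (n * m') + e * n := by
        exact add_le_add (Nat.mul_le_mul he hle) (he.trans (Nat.le_mul_of_pos_right _ hn))
    _ = Nat.card G := by rw [← hg]; ring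

theorem Small.card_eq_sum (h : Small G) :
    Nat.card G = 1 + (ofOrder G 2).card + (ofOrder G 3).card + (ofOrder G 4).card + (ofOrder G 5).card := by
  have hmaps : ∀ g ∈ (Finset.univ : Finset G), orderOf g ∈ ({1, 2, 3, 4, 5} : Finset ℕ) := fun g _ => by
    rcases h.orderOf_cases g with e | e | e | e | e <;> simp [e]
  have hsum := Finset.card_eq_sum_card_fiberwise hmaps
  rw [Finset.card_univ, ← Nat.card_eq_fintype_card,
    Finset.sum_insert (by decide), Finset.sum_insert (by decide), Finset.sum_insert (by decide),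
    Finset.sum_insert (by decide), Finset.sum_singleton] at hsum
  have h1 : (Finset.univ.filter fun g : G => orderOf g = 1) = {1} := by ext g; simp [orderOf_eq_one_iff]
  rw [h1, Finset.card_singleton] at hsum
  show _ = 1 + (Finset.univ.filter fun g : G => orderOf g = 2).card +
    (Finset.univ.filter fun g : G => orderOf g = 3).card +
    (Finset.univ.filter fun g : G => orderOf g = 4).card +
    (Finset.univ.filter fun g : G => orderOf g = 5).card
  omega

theorem ofOrder_two_eq {u : G} (hconj : ∀ v : G, orderOf v = 2 → IsConj u v) (hu : orderOf u = 2) :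
    (ofOrder G 2).card * Nat.card (centralizer ({u} : Set G)) = Nat.card G := by
  rw [mul_comm, ← Subgroup.card_mul_index (centralizer ({u} : Set G)), ← CharInt.natCard_isConj]
  congr 1
  rw [← Nat.card_eq_finsetCard]
  exact Nat.card_congr (Equiv.subtypeEquivRight fun v => by
    simp only [ofOrder, Finset.mem_filter, Finset.mem_univ, true_and]
    exact ⟨fun hv => hconj v hv, fun hv => (orderOf_of_isConj hv).trans hu⟩)

theorem card_sqrts_eq {u w : G} (huw : IsConj u w) : (sqrts w).card = (sqrts u).card := by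
  obtain ⟨c, rfl⟩ := isConj_iff.1 huw
  refine Finset.card_bij' (fun x _ => c⁻¹ * x * c) (fun x _ => c * x * c⁻¹) (fun x hx => ?_) (fun x hx => ?_)
    (fun x _ => by group) (fun x _ => by group)
  · refine Finset.mem_filter.2 ⟨Finset.mem_univ _, ?_⟩
    rw [show c⁻¹ * x * c * (c⁻¹ * x * c) = c⁻¹ * (x * x) * c by group, (Finset.mem_filter.1 hx).2]
    group
  · refine Finset.mem_filter.2 ⟨Finset.mem_univ _, ?_⟩
    rw [show c * x * c⁻¹ * (c * x * c⁻¹) = c * (x * x) * c⁻¹ by group, (Finset.mem_filter.1 hx).2]

theorem ofOrder_four_eq {u : G} (hconj : ∀ v : G, orderOf v = 2 → IsConj u v) (hu : orderOf u = 2) :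
    (ofOrder G 4).card = (ofOrder G 2).card * (sqrts u).card := by
  have hmaps : ∀ x ∈ ofOrder G 4, x * x ∈ ofOrder G 2 := fun x hx => by
    refine Finset.mem_filter.2 ⟨Finset.mem_univ _, ?_⟩
    rw [← pow_two, orderOf_pow' _ two_ne_zero, (Finset.mem_filter.1 hx).2]
    norm_num
  rw [Finset.card_eq_sum_card_fiberwise hmaps, Finset.sum_congr rfl (g := fun _ => (sqrts u).card)
    fun w hw => ?_, Finset.sum_const, smul_eq_mul]
  have hw2 : orderOf w = 2 := (Finset.mem_filter.1 hw).2
  rw [← card_sqrts_eq (hconj w hw2)]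
  congr 1
  ext x
  simp only [ofOrder, sqrts, Finset.mem_filter, Finset.mem_univ, true_and]
  refine ⟨fun hx => hx.2, fun hx => ⟨?_, hx⟩⟩
  have hw1 : w ≠ 1 := fun h => by rw [h, orderOf_one] at hw2; omega
  refine orderOf_eq_prime_pow (p := 2) (n := 1) (fun h => hw1 ?_) ?_
  · rw [← hx, ← pow_two]; exact h
  · rw [show (2 : ℕ) ^ (1 + 1) = 2 + 2 from rfl, pow_add, pow_two, hx, mul_self_of_orderOf hw2]

/-- Roots of `w` outside the centraliser of a commuting involution `w'`. -/
theorem two_mul_sqrts_le {w w' : G} (hw' : w' * w' = 1) (hc : Commute w w') {D : Finset G}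
    (hD : ∀ x : G, x ∈ D ↔ Commute x w ∧ Commute x w') :
    2 * (sqrts w).card + D.card ≤
      Nat.card (centralizer ({w} : Set G)) + 2 * (sqrts w ∩ D).card := by
  set C := (Finset.univ.filter fun x : G => Commute x w) with hC
  have hCcard : C.card = Nat.card (centralizer ({w} : Set G)) := by
    rw [← Nat.card_eq_finsetCard]
    exact Nat.card_congr (Equiv.subtypeEquivRight fun x => by
      rw [hC, Finset.mem_filter, mem_centralizer_singleton_iff]
      exact and_iff_right (Finset.mem_univ x))
  have hDC : D ⊆ C := fun x hx => Finset.mem_filter.2 ⟨Finset.mem_univ _, ((hD x).1 hx).1⟩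
  set R := sqrts w \ D with hR
  have hRC : R ⊆ C \ D := fun x hx => by
    obtain ⟨hx1, hx2⟩ := Finset.mem_sdiff.1 hx
    refine Finset.mem_sdiff.2 ⟨Finset.mem_filter.2 ⟨Finset.mem_univ _, ?_⟩, hx2⟩
    rw [← (Finset.mem_filter.1 hx1).2]
    exact (Commute.refl x).mul_right (Commute.refl x)
  have hR' : R.image (· * w') ⊆ C \ D := fun z hz => by
    obtain ⟨x, hx, rfl⟩ := Finset.mem_image.1 hz
    obtain ⟨hx1, hx2⟩ := Finset.mem_sdiff.1 (hRC hx)
    refine Finset.mem_sdiff.2 ⟨Finset.mem_filter.2 ⟨Finset.mem_univ _,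
      (Finset.mem_filter.1 hx1).2.mul_left hc.symm⟩, fun hmem => hx2 ?_⟩
    obtain ⟨a, b⟩ := (hD _).1 hmem
    have e : x = x * w' * w' := by rw [mul_assoc, hw', mul_one]
    rw [e]
    exact (hD _).2 ⟨a.mul_left hc.symm, b.mul_left (Commute.refl w')⟩
  have hdisj : Disjoint R (R.image (· * w')) := Finset.disjoint_left.2 fun z hz hz' => by
    obtain ⟨x, hx, rfl⟩ := Finset.mem_image.1 hz'
    have hxx := (Finset.mem_filter.1 (Finset.mem_sdiff.1 hx).1).2
    have hzz := (Finset.mem_filter.1 (Finset.mem_sdiff.1 hz).1).2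
    obtain ⟨hxC, hxD⟩ := Finset.mem_sdiff.1 (hRC hx)
    refine hxD ((hD x).2 ⟨(Finset.mem_filter.1 hxC).2, ?_⟩)
    have : w' * x * w' = x := by
      have h1 : x * (w' * x * w') = x * x := by
        rw [hxx]; exact (by group : x * (w' * x * w') = x * w' * (x * w')).trans hzz
      exact mul_left_cancel h1
    show x * w' = w' * x
    conv_lhs => rw [← this]
    rw [mul_assoc _ w' w', hw', mul_one]
  have hle := Finset.card_le_card (Finset.union_subset hRC hR')
  rw [Finset.card_union_of_disjoint hdisj, Finset.card_image_of_injective _ (mul_left_injective w'),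
    Finset.card_sdiff_of_subset hDC] at hle
  have h1 := Finset.card_sdiff_add_card_inter (sqrts w) D
  have h2 := Finset.card_le_card hDC
  rw [← hR] at h1
  omega

/-- Three commuting involutions and their square roots. -/
theorem twelve_mul_sqrts_le {u v : G} {f s : ℕ} (hu : orderOf u = 2) (hv : orderOf v = 2)
    (huv : u ≠ v) (hc : Commute u v) (hf : ∀ w : G, orderOf w = 2 → (sqrts w).card = f)
    (hs : ∀ w : G, orderOf w = 2 → Nat.card (centralizer ({w} : Set G)) = s)
    (hD : s ≤ 2 * (Finset.univ.filter fun x : G => Commute x u ∧ Commute x v).card) :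
    12 * f + 16 ≤ 5 * s := by
  have hu2 := mul_self_of_orderOf hu
  have hv2 := mul_self_of_orderOf hv
  set D := (Finset.univ.filter fun x : G => Commute x u ∧ Commute x v) with hDdef
  have hDiff : ∀ x, x ∈ D ↔ Commute x u ∧ Commute x v := fun x => by simp [hDdef]
  have huv2 : u * v * (u * v) = 1 := by
    rw [show u * v * (u * v) = u * (v * u) * v by group, ← hc.eq,
      show u * (u * v) * v = (u * u) * (v * v) by group, hu2, hv2, one_mul]
  have huvo : orderOf (u * v) = 2 := orderOf_eq_two_of (fun h => huv (by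
    rw [mul_eq_one_iff_inv_eq, inv_of_orderOf hu] at h; exact h)) huv2
  have hD1 : ∀ x, x ∈ D ↔ Commute x v ∧ Commute x u := fun x => by rw [hDiff, and_comm]
  have hD2 : ∀ x, x ∈ D ↔ Commute x (u * v) ∧ Commute x u := fun x => by
    rw [hDiff]
    refine ⟨fun ⟨a, b⟩ => ⟨a.mul_right b, a⟩, fun ⟨a, b⟩ => ⟨b, ?_⟩⟩
    have := (b.mul_right a)
    rwa [← mul_assoc, hu2, one_mul] at this
  have e1 := two_mul_sqrts_le hv2 hc hDiff
  have e2 := two_mul_sqrts_le hu2 hc.symm hD1
  have e3 := two_mul_sqrts_le hu2 ((Commute.refl u).mul_left hc.symm) hD2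
  rw [hf u hu, hs u hu] at e1
  rw [hf v hv, hs v hv] at e2
  rw [hf _ huvo, hs _ huvo] at e3
  have hu1 : u ≠ 1 := fun h => by rw [h, orderOf_one] at hu; omega
  have hv1 : v ≠ 1 := fun h => by rw [h, orderOf_one] at hv; omega
  have huv1 : u * v ≠ 1 := fun h => by rw [h, orderOf_one] at huvo; omega
  set four : Finset G := {1, u, v, u * v} with hfour
  have hfourcard : four.card = 4 := by
    have a1 : u ≠ u * v := fun h => hv1 (left_eq_mul.1 h)
    have a2 : v ≠ u * v := fun h => hu1 (right_eq_mul.1 h)
    rw [hfour, Finset.card_insert_of_notMem (by simp [hu1.symm, hv1.symm, huv1.symm]),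
      Finset.card_insert_of_notMem (by simp [huv, a1]),
      Finset.card_insert_of_notMem (by simp [a2]), Finset.card_singleton]
  have hfourD : four ⊆ D := fun x hx => by
    simp only [hfour, Finset.mem_insert, Finset.mem_singleton] at hx
    rcases hx with e | e | e | e <;> rw [e, hDiff]
    exacts [⟨Commute.one_left _, Commute.one_left _⟩, ⟨Commute.refl u, hc⟩, ⟨hc.symm, Commute.refl v⟩,
      ⟨(Commute.refl u).mul_left hc.symm, hc.mul_left (Commute.refl v)⟩]
  have hfoursq : ∀ x ∈ four, x * x = 1 := fun x hx => by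
    simp only [hfour, Finset.mem_insert, Finset.mem_singleton] at hx
    rcases hx with e | e | e | e <;> rw [e]
    exacts [one_mul _, hu2, hv2, huv2]
  have hroot : ∀ {w x : G}, x ∈ sqrts w ∩ D → x * x = w := fun hx =>
    (Finset.mem_filter.1 (Finset.mem_inter.1 hx).1).2
  have d1 : Disjoint (sqrts u ∩ D) (sqrts v ∩ D) :=
    Finset.disjoint_left.2 fun x a b => huv ((hroot a).symm.trans (hroot b))
  have d2 : Disjoint (sqrts u ∩ D ∪ sqrts v ∩ D) (sqrts (u * v) ∩ D) :=
    Finset.disjoint_left.2 fun x a b => by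
      rcases Finset.mem_union.1 a with a | a
      · exact hv1 (left_eq_mul.1 ((hroot a).symm.trans (hroot b)))
      · exact hu1 (right_eq_mul.1 ((hroot a).symm.trans (hroot b)))
  have d3 : Disjoint (sqrts u ∩ D ∪ sqrts v ∩ D ∪ sqrts (u * v) ∩ D) four :=
    Finset.disjoint_left.2 fun x a b => by
      have hx := hfoursq x b
      rcases Finset.mem_union.1 a with a | a
      · rcases Finset.mem_union.1 a with a | a
        · exact hu1 ((hroot a).symm.trans hx)
        · exact hv1 ((hroot a).symm.trans hx)
      · exact huv1 ((hroot a).symm.trans hx)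
  have hle : (sqrts u ∩ D ∪ sqrts v ∩ D ∪ sqrts (u * v) ∩ D ∪ four).card ≤ D.card :=
    Finset.card_le_card (Finset.union_subset (Finset.union_subset (Finset.union_subset
      Finset.inter_subset_right Finset.inter_subset_right) Finset.inter_subset_right) hfourD)
  rw [Finset.card_union_of_disjoint d3, Finset.card_union_of_disjoint d2,
    Finset.card_union_of_disjoint d1, hfourcard] at hle
  omega

variable [IsSimpleGroup G]

/-- The centraliser of an involution has a second involution. -/
theorem exists_second_involution (hG : ¬ IsMulCommutative G) {u : G} (hu : orderOf u = 2) :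
    ∃ t : G, orderOf t = 2 ∧ t ≠ u ∧ Commute t u := by
  by_contra hno
  push Not at hno
  have hiso : Cfsg.IsIsolatedInvolution u := ⟨hu, fun g hg => by
    by_contra hne
    exact hno _ ((orderOf_conj g u).trans hu) hne hg.symm⟩
  have hz := ZStar.inZStar hiso
  haveI := Fact.mk Nat.prime_two
  haveI : (Cfsg.pPrimeCore 2 G).Normal := inferInstance
  have hbot : Cfsg.pPrimeCore 2 G = ⊥ :=
    (IsSimpleGroup.eq_bot_or_eq_top_of_normal _ inferInstance).resolve_right fun ht => by
      have h' : ¬ 2 ∣ Nat.card (Cfsg.pPrimeCore 2 G) := PCore.not_dvd_card_pPrimeCore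
      rw [ht, Subgroup.card_top, ← hu] at h'
      exact h' (orderOf_dvd_natCard u)
  have hcen : u ∈ center G := mem_center_iff.2 fun g => by
    have h := hz g
    rw [hbot, Subgroup.mem_bot, mul_inv_eq_one, mul_inv_eq_iff_eq_mul] at h
    exact h
  have hZ : center G = ⊥ := (IsSimpleGroup.eq_bot_or_eq_top_of_normal _ inferInstance).resolve_right
    fun ht => hG ⟨⟨fun a b => (mem_center_iff.1 (ht ▸ mem_top b) a)⟩⟩
  rw [hZ, Subgroup.mem_bot] at hcen
  rw [hcen, orderOf_one] at hu
  omega

/-- One of the odd Sylow subgroups has index two in its normaliser. -/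
theorem Small.exists_index_two (h : Small G) (hG : ¬ IsMulCommutative G)
    [Fact (Nat.Prime 3)] [Fact (Nat.Prime 5)] :
    (∃ A : Sylow 3 G, (A : Subgroup G).relIndex (normalizer ((A : Subgroup G) : Set G)) = 2) ∨
      ∃ P : Sylow 5 G, (P : Subgroup G).relIndex (normalizer ((P : Subgroup G) : Set G)) = 2 := by
  by_contra hno
  push Not at hno
  obtain ⟨hA, hP⟩ := hno
  obtain ⟨h2, h3, -⟩ := not_comm h hG
  haveI := Fact.mk Nat.prime_two
  have hA4 : ∀ A : Sylow 3 G, 4 ≤ (A : Subgroup G).relIndex (normalizer ((A : Subgroup G) : Set G)) :=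
    fun A => by
      obtain ⟨v, hv⟩ := h.exists_inverted_three hG A
      obtain ⟨k, hk⟩ := hv.two_dvd_relIndex (odd_card_sylow le_rfl A)
      have h0 : (A : Subgroup G).relIndex (normalizer ((A : Subgroup G) : Set G)) ≠ 0 :=
        Subgroup.index_ne_zero_of_finite
      have := hA A
      omega
  have hP3 : ∀ P : Sylow 5 G, 3 ≤ (P : Subgroup G).relIndex (normalizer ((P : Subgroup G) : Set G)) :=
    fun P => by
      have h0 : (P : Subgroup G).relIndex (normalizer ((P : Subgroup G) : Set G)) ≠ 0 :=
        Subgroup.index_ne_zero_of_finite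
      have := hP P
      have := h.relIndex_five_ne_one hG P
      omega
  obtain ⟨u, hu⟩ := exists_prime_orderOf_dvd_card' (G := G) 2 h2
  have hconj : ∀ v : G, orderOf v = 2 → IsConj u v := fun v hv => h.isConj_of_invol h3 hu hv
  set S := centralizer ({u} : Set G) with hS
  set s := Nat.card S with hs
  have hcs : ∀ w : G, orderOf w = 2 → Nat.card (centralizer ({w} : Set G)) = s := fun w hw => by
    have e : (centralizer ({w} : Set G)).index = S.index := by
      rw [← CharInt.natCard_isConj, ← CharInt.natCard_isConj]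
      exact Nat.card_congr (Equiv.subtypeEquivRight fun x =>
        ⟨fun hx => (hconj w hw).trans hx, fun hx => (hconj w hw).symm.trans hx⟩)
    have h1 := Subgroup.card_mul_index (centralizer ({w} : Set G))
    rw [e, ← Subgroup.card_mul_index S] at h1
    exact Nat.eq_of_mul_eq_mul_right (Nat.pos_of_ne_zero Subgroup.index_ne_zero_of_finite) h1
  have hS2 : IsPGroup 2 S := h.centralizer_isPGroup Nat.prime_two hu
  have hS4 : ∀ x : S, x ^ 4 = 1 := fun x => by
    obtain ⟨k, hk⟩ := IsPGroup.iff_orderOf.1 hS2 x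
    have hle := h.subgroup S x
    rw [hk] at hle
    have : k ≤ 2 := by
      by_contra hh
      have : 2 ^ 3 ≤ 2 ^ k := Nat.pow_le_pow_right two_pos (by omega)
      omega
    exact orderOf_dvd_iff_pow_eq_one.1 (hk ▸ (pow_dvd_pow 2 this))
  have huS : u ∈ S := mem_centralizer_singleton_iff.2 rfl
  obtain ⟨t, ht, htu, htc⟩ := exists_second_involution hG hu
  obtain ⟨v, hv, hvu, hvD⟩ := exists_large_centralizer hS2 hS4 (u := ⟨u, huS⟩)
    (by rw [Subgroup.orderOf_mk, hu])
    (fun a => Subtype.ext (mem_centralizer_singleton_iff.1 a.2))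
    (t := ⟨t, mem_centralizer_singleton_iff.2 htc.eq⟩) (by rw [Subgroup.orderOf_mk, ht])
    (fun e => htu (congrArg Subtype.val e))
  have hvo : orderOf (v : G) = 2 := by rw [Subgroup.orderOf_coe, hv]
  have hD : s ≤ 2 * (Finset.univ.filter fun x : G => Commute x u ∧ Commute x (v : G)).card := by
    refine hvD.trans (Nat.mul_le_mul_left 2 (le_of_eq ?_))
    rw [← Nat.card_eq_finsetCard]
    refine Nat.card_congr
      { toFun := fun x => ⟨((x : S) : G), Finset.mem_filter.2 ⟨Finset.mem_univ _,
          mem_centralizer_singleton_iff.1 (x : S).2,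
          congrArg Subtype.val (mem_centralizer_singleton_iff.1 x.2)⟩⟩
        invFun := fun x => ⟨⟨x.1, mem_centralizer_singleton_iff.2 (Finset.mem_filter.1 x.2).2.1.eq⟩,
          mem_centralizer_singleton_iff.2 (Subtype.ext (Finset.mem_filter.1 x.2).2.2.eq)⟩
        left_inv := fun x => rfl
        right_inv := fun x => rfl }
  have hkey := twelve_mul_sqrts_le hu hvo (fun e => hvu (Subtype.ext e.symm))
    ((mem_centralizer_singleton_iff.1 v.2).symm : Commute u (v : G))
    (f := (sqrts u).card) (fun w hw => card_sqrts_eq (hconj w hw)) hcs hD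
  have hsum := h.card_eq_sum
  have h24 := ofOrder_four_eq hconj hu
  have hI := ofOrder_two_eq hconj hu
  have b3 := mul_card_ofOrder_le (p := 3) 4 hA4
  have b5 := mul_card_ofOrder_le (p := 5) 3 hP3
  rw [← hS, ← hs] at hI
  set I := (ofOrder G 2).card
  set f := (sqrts u).card
  have hI0 : 1 ≤ I := by
    rcases Nat.eq_zero_or_pos I with e | e
    · rw [e, zero_mul] at hI; exact absurd hI Nat.card_pos.ne
    · exact e
  have h12 : I * (5 * s) + 12 ≤ I * (12 * (1 + f)) := by nlinarith
  have : 5 * s < 12 * (1 + f) := by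
    by_contra hh
    have := Nat.mul_le_mul_left I (not_lt.1 hh)
    omega
  omega

end Cfsg.Agent.OrderFive
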