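import Mathlib
import Cfsg.Agent.Lib.OrderFive.Sylow
import Cfsg.Agent.Lib.Exceptional.NormThree
import Cfsg.Agent.Lib.Char.Linear
import Cfsg.Agent.Lib.Char.PRegular
import Cfsg.Agent.Lib.SmallCofactor.Basic

/-!
# Degrees from an inverted subgroup of index two in its normaliser

For an inverted abelian `H` of order `n` with `|N(H) : H| = 2` and a nontrivial linear character `ψ`,
the function induced from `1 - ψ` has norm three; all these functions share one of their two nontrivial
constituents, whose degree is `±1` modulo `n`.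
-/

set_option autoImplicit false
set_option linter.style.haveILetI false
set_option linter.unusedSectionVars false

namespace Cfsg.Agent.OrderFive

open Subgroup Cfsg Cfsg.Agent
open scoped Classical ComplexConjugate

universe u

section Abelian

variable {H : Type u} [Group H] [Fintype H] (hab : ∀ a b : H, a * b = b * a)

include hab in
theorem sum_irr_linear (h : H) :
    ∑ ψ : IrrCharacter H, ψ.1 h = if h = 1 then (Nat.card H : ℂ) else 0 := by
  have e := Char.sum_irr_mul_conj h (1 : H)
  have htop : centralizer ({(1 : H)} : Set H) = ⊤ := by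
    rw [eq_top_iff']; intro x; simp [mem_centralizer_singleton_iff]
  simp only [Char.apply_one_of_comm hab, map_one, mul_one, htop, Subgroup.card_top] at e
  rw [e]
  refine if_congr ?_ rfl rfl
  exact isConj_one_left

include hab in
theorem sum_sq_linear (hodd : Odd (Nat.card H)) (ψ : IrrCharacter H) :
    ∑ h : H, ψ.1 h * ψ.1 h = ∑ h : H, ψ.1 h := by
  obtain ⟨f, hf⟩ := Char.IsCharacter.exists_monoidHom (Char.irr_isCharacter ψ) (Char.apply_one_of_comm hab ψ)
  have hfh : ∀ h, ψ.1 h = f h := fun h => by rw [← hf]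
  obtain ⟨m, hm⟩ := hodd
  have hsq : Function.Bijective fun h : H => h * h := by
    refine Finite.injective_iff_bijective.1 fun a b hab' => ?_
    have key : ∀ c : H, c = (c * c) ^ (m + 1) := fun c => by
      have e : Nat.card H + 1 = 2 * (m + 1) := by omega
      rw [← pow_two, ← pow_mul, ← e, pow_succ, pow_card_eq_one', one_mul]
    rw [key a, key b]
    rw [hab']
  rw [← hsq.sum_comp fun h => ψ.1 h]
  exact Finset.sum_congr rfl fun h _ => by rw [hfh, hfh (h * h), map_mul]

end Abelian

section Dihedral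

variable {N : Type u} [Group N] [Fintype N] {H : Subgroup N} [Fintype H]

theorem indFun_apply_of_inverted (hidx : H.index = 2) (hab : ∀ a ∈ H, ∀ b ∈ H, a * b = b * a) {v : N}
    (hv : v ∉ H) (hinv : ∀ b ∈ H, v * b * v⁻¹ = b⁻¹) (θ : H → ℂ) (h : H) :
    indFun H θ (h : N) = θ h + θ h⁻¹ := by
  have hin : ∀ x ∈ H, extendByZero H θ (x⁻¹ * (h : N) * x) = θ h := fun x hx => by
    rw [mul_assoc, hab (h : N) h.2 x hx, inv_mul_cancel_left, Char.extendByZero_coe]
  have hout : ∀ x ∉ H, extendByZero H θ (x⁻¹ * (h : N) * x) = θ h⁻¹ := fun x hx => by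
    have ha : v * x ∈ H := (Subgroup.mul_mem_iff_of_index_two hidx).2 (iff_of_false hv hx)
    have e1 : x⁻¹ * (h : N) * x = (v * x)⁻¹ * (v * (h : N) * v⁻¹) * (v * x) := by group
    rw [e1, hinv _ h.2, mul_assoc, hab _ (inv_mem h.2) _ ha, inv_mul_cancel_left, ← Subgroup.coe_inv,
      Char.extendByZero_coe]
  have hN : (Fintype.card N) = 2 * Fintype.card H := by
    rw [← Nat.card_eq_fintype_card, ← Nat.card_eq_fintype_card, ← Subgroup.card_mul_index H, hidx, mul_comm]
  have hc1 : (Finset.univ.filter fun x : N => x ∈ H).card = Fintype.card H := by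
    rw [Fintype.card_subtype]
  have hc2 : (Finset.univ.filter fun x : N => x ∉ H).card = Fintype.card H := by
    have := Finset.card_filter_add_card_filter_not (s := (Finset.univ : Finset N)) fun x : N => x ∈ H
    rw [Finset.card_univ, hc1] at this
    omega
  rw [indFun, ← Finset.sum_filter_add_sum_filter_not Finset.univ fun x : N => x ∈ H,
    Finset.sum_congr rfl fun x hx => hin x (Finset.mem_filter.1 hx).2,
    Finset.sum_congr rfl fun x hx => hout x (Finset.mem_filter.1 hx).2, Finset.sum_const, Finset.sum_const,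
    hc1, hc2, nsmul_eq_mul, nsmul_eq_mul, Nat.card_eq_fintype_card, mul_add,
    inv_mul_cancel_left₀ (Nat.cast_ne_zero.2 Fintype.card_ne_zero),
    inv_mul_cancel_left₀ (Nat.cast_ne_zero.2 Fintype.card_ne_zero)]

end Dihedral

variable {G : Type u} [Group G] [Fintype G] [IsSimpleGroup G]

/-- Two degrees `a`, `a + 1` from an inverted subgroup of index two in its normaliser. -/
theorem exists_degree_pair (hG : ¬ IsMulCommutative G) {H : Subgroup G} {v : G} (hH : Inverted H v)
    (hodd : Odd (Nat.card H)) (h3 : 3 ≤ Nat.card H)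
    (he : H.relIndex (normalizer (H : Set G)) = 2) :
    ∃ a : ℕ, 2 ≤ a ∧ a ∣ Nat.card G ∧ a + 1 ∣ Nat.card G ∧
      (Nat.card H ∣ a - 1 ∨ Nat.card H ∣ a + 2) := by
  set N := normalizer (H : Set G) with hN
  set K := H.subgroupOf N with hK
  haveI : Fintype N := Fintype.ofFinite _
  haveI : Fintype K := Fintype.ofFinite _
  haveI hKn : K.Normal := normal_in_normalizer
  have hcard : Nat.card K = Nat.card H := Nat.card_congr (subgroupOfEquivOfLe le_normalizer).toEquiv
  set n := Nat.card H with hn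
  have hidx : K.index = 2 := he
  have habK : ∀ a ∈ K, ∀ b ∈ K, a * b = b * a := fun a ha b hb =>
    Subtype.ext (hH.isMulCommutative (mem_subgroupOf.1 ha) (mem_subgroupOf.1 hb))
  have habK' : ∀ a b : K, a * b = b * a := fun a b => Subtype.ext (habK _ a.2 _ b.2)
  have hvH : v ∉ H := fun hvm => by
    have h2 : 2 ∣ Nat.card H := hH.invol ▸ Subgroup.orderOf_dvd_natCard _ hvm
    exact (Nat.not_even_iff_odd.2 hodd) (even_iff_two_dvd.2 h2)
  set v' : N := ⟨v, hH.mem_normalizer⟩ with hv'
  have hv'K : v' ∉ K := fun h => hvH (mem_subgroupOf.1 h)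
  have hinvK : ∀ b ∈ K, v' * b * v'⁻¹ = b⁻¹ := fun b hb => Subtype.ext (hH.inv _ (mem_subgroupOf.1 hb))
  set triv := Char.trivialChar K with htriv
  let κ := {ψ : IrrCharacter K // ψ ≠ triv}
  let α : κ → N → ℂ := fun ψ => indFun K (triv.1 - ψ.1.1)
  have hcar : ∀ ψ : κ, IsGeneralizedCharacter K (triv.1 - ψ.1.1) := fun ψ =>
    Char.IsGeneralizedCharacter.sub (Char.irr_isGeneralized _) (Char.irr_isGeneralized _)
  have hgen : ∀ ψ, IsGeneralizedCharacter N (α ψ) := fun ψ =>
    Char.isGeneralizedCharacter_indFun K (hcar ψ)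
  have hval : ∀ (ψ : κ) (h : K), α ψ (h : N) = (1 - ψ.1.1 h) + (1 - conj (ψ.1.1 h)) := fun ψ h => by
    rw [Char.IsCharacter.conj_apply (Char.irr_isCharacter ψ.1)]
    exact indFun_apply_of_inverted hidx habK hv'K hinvK _ h
  let S : Set G := (H : Set G) \ {1}
  have hS1 : (1 : G) ∉ S := fun h => h.2 rfl
  have hTI : ∀ g : G, ∀ s ∈ S, g⁻¹ * s * g ∈ S → g ∈ N := by
    intro g s hs hgs
    have hs1 : s ≠ 1 := hs.2
    refine inv_mem_iff.1 (mem_normalizer_iff.2 fun b => ?_)
    rw [← hH.cent s hs.1 hs1, inv_inv]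
    have e : (g⁻¹ * b * g ∈ centralizer ({g⁻¹ * s * g} : Set G)) ↔ b ∈ centralizer ({s} : Set G) := by
      rw [mem_centralizer_singleton_iff, mem_centralizer_singleton_iff]
      constructor
      · intro h
        calc b * s = g * (g⁻¹ * b * g * (g⁻¹ * s * g)) * g⁻¹ := by group
          _ = g * (g⁻¹ * s * g * (g⁻¹ * b * g)) * g⁻¹ := by rw [h]
          _ = s * b := by group
      · intro h
        calc g⁻¹ * b * g * (g⁻¹ * s * g) = g⁻¹ * (b * s) * g := by group
          _ = g⁻¹ * (s * b) * g := by rw [h]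
          _ = g⁻¹ * s * g * (g⁻¹ * b * g) := by group
    rw [hH.cent _ hgs.1 hgs.2, ← hH.cent s hs.1 hs1] at e
    exact e.symm
  have hα : ∀ ψ, ∀ x : N, (x : G) ∉ S → α ψ x = 0 := fun ψ x hx => by
    by_cases hxK : x ∈ K
    · have hx1 : x = 1 := by
        by_contra h
        exact hx ⟨mem_subgroupOf.1 hxK, fun e => h (Subtype.ext e)⟩
      subst hx1
      rw [show (1 : N) = ((1 : K) : N) from rfl, hval, Char.apply_one_of_comm habK']
      simp
    · exact Char.indFun_of_notMem_normal K _ hxK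
  obtain ⟨V, -, hVc, hVV, hVd⟩ := Exceptional.NormThree.exists_coords hS1 hTI α hgen hα
  have hinner : ∀ (ψ : κ) {F : N → ℂ}, IsClassFunction N F →
      classInner (α ψ) F = classInner triv.1 (fun h : K => F h) - classInner ψ.1.1 (fun h : K => F h) :=
    fun ψ F hF => by
      show classInner (indFun K _) F = _
      rw [Char.classInner_indFun K _ hF, Char.classInner_sub_left]
  have hGtriv : (fun h : K => (Char.trivialChar G).1 ((h : N) : G)) = triv.1 := funext fun h => by
    rw [Char.trivialChar_apply, htriv, Char.trivialChar_apply]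
  have hbase : ∀ ψ, V ψ (Char.trivialChar G) = 1 := fun ψ => by
    apply Int.cast_injective (α := ℂ)
    rw [hVc, hinner ψ (Char.IsCharacter.isClassFunction
      (Char.IsCharacter.restrict (Char.irr_isCharacter (Char.trivialChar G)) N)), hGtriv,
      Char.classInner_irr, Char.classInner_irr, if_pos rfl, if_neg ψ.2]
    simp
  -- inner products
  have hαK : ∀ φ : κ, (fun h : K => α φ (h : N)) =
      (triv.1 - φ.1.1) + (triv.1 - fun h => conj (φ.1.1 h)) := fun φ => funext fun h => by
    rw [hval]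
    simp [htriv, Char.trivialChar_apply]
  have htc : ∀ φ : κ, classInner triv.1 (fun h : K => conj (φ.1.1 h)) = 0 := fun φ => by
    have e := Char.classInner_irr φ.1 triv
    rw [if_neg φ.2] at e
    rw [← e]
    simp [classInner, htriv, Char.trivialChar_apply]
  have hdot : ∀ ψ φ : κ, ((V ψ ⬝ᵥ V φ : ℤ) : ℂ) =
      2 + classInner ψ.1.1 φ.1.1 + classInner ψ.1.1 (fun h => conj (φ.1.1 h)) := fun ψ φ => by
    rw [hVV, hinner ψ (Char.IsGeneralizedCharacter.isClassFunction (hgen φ)), hαK,
      Char.classInner_add_right, Char.classInner_add_right, Char.classInner_sub_right,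
      Char.classInner_sub_right, Char.classInner_sub_right, Char.classInner_sub_right, htc,
      Char.classInner_irr, Char.classInner_irr, Char.classInner_irr, if_pos rfl, if_neg ψ.2,
      if_neg φ.2.symm]
    ring
  have hnorm : ∀ ψ, V ψ ⬝ᵥ V ψ = 3 := fun ψ => by
    apply Int.cast_injective (α := ℂ)
    have h0 : classInner ψ.1.1 (fun h => conj (ψ.1.1 h)) = 0 := by
      have e := Char.classInner_irr ψ.1 triv
      rw [if_neg ψ.2] at e
      rw [← e]
      have hs := sum_sq_linear habK' (hcard.symm ▸ hodd) ψ.1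
      simp [classInner, htriv, Char.trivialChar_apply, hs]
    rw [hdot, h0, Char.classInner_irr, if_pos rfl]
    norm_num
  have hge : ∀ ψ φ, 2 ≤ V ψ ⬝ᵥ V φ := fun ψ φ => by
    obtain ⟨k, hk⟩ := Char.IsCharacter.exists_nat_classInner (Char.irr_isCharacter ψ.1)
      (Char.irr_isCharacter φ.1)
    obtain ⟨l, hl⟩ := Char.IsCharacter.exists_nat_classInner (Char.irr_isCharacter ψ.1)
      (Char.IsCharacter.conj (Char.irr_isCharacter φ.1))
    have e := hdot ψ φ
    rw [hk, hl] at e
    have e' : V ψ ⬝ᵥ V φ = 2 + (k : ℤ) + l := Int.cast_injective (α := ℂ) (by push_cast; exact e)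
    omega
  let d : IrrCharacter G → ℤ := fun χ => (charDegree χ.1 : ℤ)
  have hd : ∀ χ, 0 < d χ := fun χ => Int.natCast_pos.2 (Char.charDegree_pos χ)
  have hd0 : d (Char.trivialChar G) = 1 := by
    have : (d (Char.trivialChar G) : ℂ) = 1 := by simp [d, Char.charDegree_cast, Char.trivialChar_apply]
    exact_mod_cast this
  choose A B hA0 hB0 hAB hVA hVB hdeg hzero using fun ψ =>
    Exceptional.NormThree.exists_two_entries (d := d) (hbase ψ) (hnorm ψ) hd hd0 (hVd ψ)
  have hneg : ∀ φ χ, χ ≠ Char.trivialChar G → χ ≠ A φ → V φ χ ≤ 0 := fun φ χ h0 h1 => by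
    by_cases h2 : χ = B φ
    · rw [h2, hVB]; norm_num
    · rw [hzero φ χ h0 h1 h2]
  have hpos : ∀ φ χ, χ ≠ Char.trivialChar G → χ ≠ B φ → 0 ≤ V φ χ := fun φ χ h0 h1 => by
    by_cases h2 : χ = A φ
    · rw [h2, hVA]; norm_num
    · rw [hzero φ χ h0 h2 h1]
  have hshare : ∀ ψ φ, A ψ = A φ ∨ B ψ = B φ := fun ψ φ => by
    by_contra hne
    push Not at hne
    have e : V ψ ⬝ᵥ V φ = 1 + V φ (A ψ) - V φ (B ψ) := by
      have e1 := Exceptional.NormThree.sum_three (hbase ψ) (hA0 ψ) (hB0 ψ) (hAB ψ) (hVA ψ) (hVB ψ)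
        (hzero ψ) (fun χ => V φ χ)
      simp only [Int.cast_id] at e1
      rw [dotProduct, e1, hbase]
    have := hge ψ φ
    have := hneg φ _ (hA0 ψ) hne.1
    have := hpos φ _ (hB0 ψ) hne.2
    omega
  obtain ⟨ψ₀⟩ : Nonempty κ := by
    by_contra hemp
    have hall : ∀ ψ : IrrCharacter K, ψ = triv := fun ψ => by
      by_contra hne
      exact hemp ⟨⟨ψ, hne⟩⟩
    have e := sum_irr_linear habK' (1 : K)
    rw [if_pos rfl, hcard, Finset.sum_congr rfl (g := fun _ => (1 : ℂ)) (fun ψ _ => Char.apply_one_of_comm habK' ψ),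
      Finset.sum_const, nsmul_eq_mul, mul_one, Nat.cast_inj] at e
    have : (Finset.univ : Finset (IrrCharacter K)).card ≤ 1 :=
      Finset.card_le_one.2 fun a _ b _ => (hall a).trans (hall b).symm
    omega
  have hcong : ∀ χ : IrrCharacter G, ∃ m : ℤ, ∑ ψ : κ, V ψ χ = (n : ℤ) * m - d χ := fun χ => by
    set F : K → ℂ := fun h => χ.1 ((h : N) : G) with hF
    have hFc : IsCharacter K F :=
      Char.IsCharacter.restrict (Char.IsCharacter.restrict (Char.irr_isCharacter χ) N) K
    obtain ⟨m, hm⟩ := Char.IsCharacter.exists_nat_classInner (Char.irr_isCharacter triv) hFc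
    refine ⟨m, Int.cast_injective (α := ℂ) ?_⟩
    have hVψ : ∀ ψ : κ, (V ψ χ : ℂ) = (m : ℂ) - classInner ψ.1.1 F := fun ψ => by
      rw [hVc, hinner ψ (Char.IsCharacter.isClassFunction
        (Char.IsCharacter.restrict (Char.irr_isCharacter χ) N)), ← hm]
    have hall : ∑ ψ : IrrCharacter K, classInner ψ.1 F = F 1 := by
      simp only [classInner]
      rw [← Finset.mul_sum, Finset.sum_comm]
      simp only [← Finset.sum_mul, sum_irr_linear habK', ite_mul, zero_mul, Finset.sum_ite_eq',
        Finset.mem_univ, if_true]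
      rw [inv_mul_cancel_left₀ (Nat.cast_ne_zero.2 Nat.card_pos.ne'),
        Char.IsCharacter.conj_apply hFc, inv_one]
    have hsplit := Finset.add_sum_erase Finset.univ (fun ψ : IrrCharacter K => classInner ψ.1 F)
      (Finset.mem_univ triv)
    rw [hall, hm] at hsplit
    have hκ : (Finset.univ : Finset κ).card + 1 = n := by
      have e := sum_irr_linear habK' (1 : K)
      simp only [if_true, Char.apply_one_of_comm habK', Finset.sum_const, nsmul_eq_mul, mul_one,
        Nat.cast_inj, hcard] at e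
      rw [← e, Finset.card_univ, Finset.card_univ, Fintype.card_subtype_compl, Fintype.card_subtype_eq]
      have := Fintype.card_pos_iff.2 (⟨triv⟩ : Nonempty (IrrCharacter K))
      omega
    have hF1 : F 1 = (d χ : ℂ) := by simp [hF, d, Char.charDegree_cast]
    push_cast
    rw [Finset.sum_congr rfl fun ψ _ => hVψ ψ, Finset.sum_sub_distrib, Finset.sum_const, nsmul_eq_mul,
      ← Finset.sum_subtype (Finset.univ.erase triv) (fun x => by simp) fun ψ => classInner ψ.1 F,
      ← hκ, ← hF1]
    push_cast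
    linear_combination -hsplit
  have hκn : ((Finset.univ : Finset κ).card : ℤ) + 1 = n := by
    have e := sum_irr_linear habK' (1 : K)
    simp only [if_true, Char.apply_one_of_comm habK', Finset.sum_const, nsmul_eq_mul, mul_one,
      Nat.cast_inj, hcard] at e
    rw [← e, Finset.card_univ, Finset.card_univ, Fintype.card_subtype_compl, Fintype.card_subtype_eq]
    have := Fintype.card_pos_iff.2 (⟨triv⟩ : Nonempty (IrrCharacter K))
    omega
  have hconst : (∀ ψ, A ψ = A ψ₀) ∨ ∀ ψ, B ψ = B ψ₀ := by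
    by_contra h
    push Not at h
    obtain ⟨⟨ψ, hψ⟩, φ, hφ⟩ := h
    have h1 := (hshare ψ ψ₀).resolve_left hψ
    have h2 := (hshare φ ψ₀).resolve_right hφ
    rcases hshare ψ φ with h3 | h3
    · exact hψ (h3.trans h2)
    · exact hφ (h3.symm.trans h1)
  have hdvd : ∀ χ : IrrCharacter G, charDegree χ.1 ∣ Nat.card G := fun χ => by
    rw [Char.charDegree_eq_degree]; exact Char.degree_dvd_natCard χ
  refine ⟨charDegree (A ψ₀).1, SmallCofactor.one_lt_degree hG (hA0 ψ₀), hdvd _, ?_, ?_⟩
  · have e : charDegree (B ψ₀).1 = charDegree (A ψ₀).1 + 1 := by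
      have := hdeg ψ₀; simp only [d] at this; omega
    rw [← e]; exact hdvd _
  have h2 := SmallCofactor.one_lt_degree hG (hA0 ψ₀)
  rcases hconst with hc | hc
  · left
    obtain ⟨m, hm⟩ := hcong (A ψ₀)
    rw [Finset.sum_congr rfl (g := fun _ => (1 : ℤ)) fun ψ _ => by rw [← hc ψ, hVA],
      Finset.sum_const, nsmul_eq_mul, mul_one] at hm
    have : (n : ℤ) ∣ (charDegree (A ψ₀).1 : ℤ) - 1 := ⟨m - 1, by simp only [d] at hm; linarith⟩
    rw [← Nat.cast_one, ← Nat.cast_sub (by omega)] at this
    exact_mod_cast this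
  · right
    obtain ⟨m, hm⟩ := hcong (B ψ₀)
    rw [Finset.sum_congr rfl (g := fun _ => (-1 : ℤ)) fun ψ _ => by rw [← hc ψ, hVB],
      Finset.sum_const, nsmul_eq_mul, mul_neg, mul_one, hdeg ψ₀] at hm
    have : (n : ℤ) ∣ (charDegree (A ψ₀).1 : ℤ) + 2 := ⟨m + 1, by simp only [d] at hm; linarith⟩
    exact_mod_cast this

end Cfsg.Agent.OrderFive
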