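import Cfsg.Agent.Lib.SmallSimple.FiveCases

/-!
# The principal 5-block equation for a self-centralising Sylow subgroup of order five

The proof is that of `FivePairs.false_of_index_two`, keeping the equation.
-/

set_option autoImplicit false
set_option linter.style.haveILetI false
set_option linter.unusedSectionVars false

namespace Cfsg.Agent.OrderFive

open Cfsg Cfsg.Agent Cfsg.Agent.FivePairs
open scoped Classical ComplexConjugate

universe u

variable {G : Type u} [Group G] [Fintype G] [IsSimpleGroup G]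

/-- The equation for a self-centralising Sylow subgroup of order five with `|N(P) : P| = 2`, at an
involution whose centraliser is a Sylow 2-subgroup. -/
theorem five_equation (hG : ¬ IsMulCommutative G) [Fact (Nat.Prime 5)] {n m r T s : ℕ}
    (hn : Nat.card G = n) (hnm : n = 5 * m) (hm : ¬ 5 ∣ m) (hr : (m * r) % 5 = 1) (P : Sylow 5 G)
    (hk : Nat.card (Subgroup.centralizer ((P : Subgroup G) : Set G)) = 5 * 1)
    (hrel : (Subgroup.centralizer ((P : Subgroup G) : Set G)).relIndex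
      (Subgroup.normalizer ((P : Subgroup G) : Set G)) = 2)
    (hT : T = 2 ^ s) (hs : 0 < s) (hdvd : T ∣ n)
    (hcT : ∀ t : G, orderOf t = 2 → T ∣ Nat.card (Subgroup.centralizer ({t} : Set G)) →
      Nat.card (Subgroup.centralizer ({t} : Set G)) = T) :
    ∃ Z w : ℤ, Z % 5 = 1 ∧ 2 ≤ Z.natAbs ∧ Z.natAbs ∣ n ∧ (1 + Z).natAbs ∣ n ∧ 2 ∣ Z - w ∧
      w.natAbs < Z.natAbs ∧ (n : ℤ) * (Z - w) ^ 2 = 5 * (T : ℤ) ^ 2 * (Z * (1 + Z)) := by
  obtain ⟨k, hk1, hk⟩ : ∃ k : ℕ, k = 1 ∧
      Nat.card (Subgroup.centralizer ((P : Subgroup G) : Set G)) = 5 * k := ⟨1, rfl, hk⟩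
  obtain ⟨M, hM⟩ := CharInt.exists_isPModular_of_prime (q := 5) (by norm_num)
  haveI := hM.2.1
  have hpM := hM.2.2
  have S := setup hn hnm hm hr P hk
  obtain ⟨sh⟩ := DefectOne.primeShape hpM (P := P) S.cardP (M := M) hrel
  have hreg1 : IsPRegular 5 (1 : G) := by simp [IsPRegular]
  obtain ⟨θ, θ', hθne, hY⟩ := Finset.card_eq_two.1 (show sh.Y.card = 2 by rw [sh.cardY])
  have hθY : θ ∈ sh.Y := by rw [hY]; simp
  have hθY' : θ' ∈ sh.Y := by rw [hY]; simp
  have htX : Char.trivialChar G ∈ sh.X := by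
    have h : Char.trivialChar G ∈ principalBlock M G := Blocks.trivial_mem_principalBlock
    rw [sh.union] at h
    rcases h with h | h
    · exact h
    · exfalso
      have := sh.Y_deg _ h
      rw [charDegree_trivial] at this
      rcases sh.hε with e | e <;> rw [e, Int.ModEq] at this <;> norm_num at this
  obtain ⟨χ, hχ⟩ := Finset.card_eq_one.1
    (show (sh.X.erase (Char.trivialChar G)).card = 1 by rw [Finset.card_erase_of_mem htX, sh.cardX])
  have hχ' := Finset.mem_erase.1 (show χ ∈ sh.X.erase (Char.trivialChar G) by rw [hχ]; simp)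
  have hX : sh.X = {Char.trivialChar G, χ} := by rw [← Finset.insert_erase htX, hχ]
  obtain ⟨y₀, hy₀P, -, hy₀⟩ := DefectOne.exists_gen (P := P) S.cardP
  have hy1 : y₀ ≠ 1 := fun h => by rw [h, orderOf_one] at hy₀; omega
  have hε1 : sh.εX (Char.trivialChar G) = 1 := by
    have h : (1 : ℂ) = (sh.εX (Char.trivialChar G) : ℂ) :=
      sh.X_val _ htX ⟨y₀, hy₀P⟩ fun h => hy1 (congrArg Subtype.val h)
    exact_mod_cast h.symm
  set z := sh.εX χ
  have hz : z = 1 ∨ z = -1 := sh.hεX χ hχ'.2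
  have hrel' : ∀ η ∈ sh.Y, ∀ g : G, ¬ 5 ∣ orderOf g → (sh.ε : ℂ) * η.1 g = 1 + z * χ.1 g := fun η hη g hg => by
    rw [sh.relation η hη g hg, hX, Finset.sum_pair hχ'.1.symm, hε1]; simp [z]
  obtain ⟨t, ht, hTc⟩ := exists_two_central hn hT hs hdvd
  have ht2 : t * t = 1 := by rw [← pow_two, ← ht, pow_orderOf_eq_one]
  have ht1 : t ≠ 1 := fun h => by rw [h, orderOf_one] at ht; omega
  have ht5 : ¬ 5 ∣ orderOf t := by rw [ht]; norm_num
  have hB : ∀ η ∈ sh.X ∪ sh.Y, η ∈ principalBlock M G := fun η hη => by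
    rw [sh.union]; exact (Finset.mem_union.1 hη).imp id id
  set cf : IrrCharacter G → ℤ := fun η => if η ∈ sh.X then 2 * sh.εX η else -sh.ε
  have hcfX : ∀ η ∈ sh.X, cf η = 2 * sh.εX η := fun η h => if_pos h
  have hcfY : ∀ η ∈ sh.Y, cf η = -sh.ε := fun η h =>
    if_neg fun h' => Finset.disjoint_left.1 sh.disj h' h
  have hsum : ∀ F : IrrCharacter G → ℂ, ∑ η ∈ sh.X ∪ sh.Y, (cf η : ℂ) * F η =
      2 * F (Char.trivialChar G) + 2 * z * F χ - sh.ε * F θ - sh.ε * F θ' := fun F => by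
    rw [Finset.sum_union sh.disj, hX, Finset.sum_pair hχ'.1.symm, hY, Finset.sum_pair hθne,
      hcfX _ htX, hcfX _ hχ'.2, hcfY _ hθY, hcfY _ hθY', hε1]
    push_cast
    ring
  obtain ⟨j, hjk, -, hid⟩ := pairs_identity S.exp S.hsyl S.hcent S.hconj (sh.X ∪ sh.Y) cf
    (Finset.mem_union_left _ htX)
    (fun g hg => by
      rw [hsum, Char.trivialChar_apply]
      linear_combination -(hrel' θ hθY g hg) - (hrel' θ' hθY' g hg))
    (fun g hg => Finset.sum_congr rfl fun η hη => by rw [apply_section S hpM (hB η hη) g hg]) ht2 hy₀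
  obtain ⟨a, ha, hpar, hle⟩ := exists_value_parity ht χ
  have hlt := value_lt_degree hG hχ'.1 ht1 ha hle
  set d := charDegree χ.1
  set Z : ℤ := z * d
  set w : ℤ := z * a
  have hZw : Z.natAbs = d ∧ w.natAbs = a.natAbs := by rcases hz with h | h <;> simp [Z, w, h]
  have hZ5 : Z % 5 = 1 := by
    have h := sh.X_deg χ hχ'.2
    rw [Int.ModEq] at h
    rcases hz with e | e <;> simp only [z] at e <;> rw [e] at h <;> simp only [Z, z, e] <;> omega
  have hf : ∀ η ∈ sh.Y, sh.ε * (charDegree η.1 : ℤ) = 1 + Z := fun η hη => by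
    have h := hrel' η hη 1 (by simp)
    rw [← Char.charDegree_cast, ← Char.charDegree_cast] at h
    apply Int.cast_injective (α := ℂ)
    push_cast [Z]
    exact h
  have hb : ∀ η ∈ sh.Y, (sh.ε : ℂ) * η.1 t = 1 + w := fun η hη => by
    rw [hrel' η hη t ht5, ha]; push_cast [w]; ring
  have hFdvd : (1 + Z).natAbs ∣ n := by
    rw [← hf θ hθY, Int.natAbs_mul, ← hn]
    rcases sh.hε with e | e <;> rw [e] <;>
      simpa [Nat.card_eq_fintype_card, Char.charDegree_eq_degree] using Char.degree_dvd_natCard θ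
  have hZ0 : Z ≠ 0 := fun h => by
    have := Char.charDegree_pos χ
    rw [h] at hZw
    simp at hZw
    omega
  have hF0 : 1 + Z ≠ 0 := fun h => by
    have h1 := hf θ hθY
    have := Char.charDegree_pos θ
    rcases sh.hε with e | e <;> rw [e] at h1 <;> omega
  rw [hsum, hcfX _ htX, hε1, Char.trivialChar_apply, Char.trivialChar_apply] at hid
  have hterm : ∀ η ∈ sh.Y, (sh.ε : ℂ) * (η.1 t * η.1 t / η.1 1) = (1 + w) ^ 2 / (1 + Z : ℤ) := fun η hη => by
    have h1 : ((1 + Z : ℤ) : ℂ) = (sh.ε : ℂ) * η.1 1 := by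
      rw [← Char.charDegree_cast, ← hf η hη]; push_cast; ring
    rw [h1, ← hb η hη]
    rcases sh.hε with e | e <;> rw [e] <;> push_cast <;> ring
  have hχterm : (z : ℂ) * (χ.1 t * χ.1 t / χ.1 1) = (w : ℂ) ^ 2 / (Z : ℂ) := by
    rw [ha, ← Char.charDegree_cast]
    rcases hz with e | e <;> simp only [w, Z, e] <;> push_cast <;> ring
  set c := Nat.card (Subgroup.centralizer ({t} : Set G))
  have hZC : (Z : ℂ) ≠ 0 := Int.cast_ne_zero.2 hZ0
  have hFC : ((1 + Z : ℤ) : ℂ) ≠ 0 := Int.cast_ne_zero.2 hF0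
  have hkey : (k : ℤ) * n * (Z - w) ^ 2 = 5 * (j : ℤ) ^ 2 * (c : ℤ) ^ 2 * (Z * (1 + Z)) := by
    apply Int.cast_injective (α := ℂ)
    have h2 : (k : ℂ) * n * (2 + 2 * ((w : ℂ) ^ 2 / Z) - 2 * ((1 + w) ^ 2 / ((1 + Z : ℤ) : ℂ))) =
        10 * (j : ℂ) ^ 2 * (c : ℂ) ^ 2 := by
      rw [← hn]
      push_cast at hid ⊢
      have e1 := hterm θ hθY
      have e2 := hterm θ' hθY'
      push_cast at e1 e2
      linear_combination hid - 2 * (k : ℂ) * (Nat.card G : ℂ) * hχterm
        + (k : ℂ) * (Nat.card G : ℂ) * e1 + (k : ℂ) * (Nat.card G : ℂ) * e2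
    push_cast at h2 hFC ⊢
    field_simp at h2
    linear_combination h2 / 2
  subst hk1
  have h2 := SmallCofactor.one_lt_degree hG hχ'.1
  have hZn : Z.natAbs ∣ n := by
    rw [hZw.1, ← hn, show d = charDegree χ.1 from rfl, Char.charDegree_eq_degree]
    exact Char.degree_dvd_natCard χ
  have hj1 : j = 1 := by
    rcases (show j = 0 ∨ j = 1 by omega) with e | e
    · exfalso
      rw [e] at hkey
      have hn0 : (n : ℤ) ≠ 0 := by rw [← hn]; exact_mod_cast Nat.card_pos.ne'
      have hZw' : Z - w = 0 := by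
        have h0 : (n : ℤ) * (Z - w) ^ 2 = 0 := by simpa using hkey
        simpa using (mul_eq_zero.1 h0).resolve_left hn0
      omega
    · exact e
  refine ⟨Z, w, hZ5, by omega, hZn, hFdvd, ?_, by omega, ?_⟩
  · rcases hz with e | e <;> simp only [Z, w, e] <;> omega
  · have hcT' : c = T := hcT t ht hTc
    rw [hj1, hcT'] at hkey
    simpa using hkey

end Cfsg.Agent.OrderFive
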