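import Mathlib
import Cfsg.Agent.Lib.OrderFive.Count
import Cfsg.Agent.Lib.OrderFive.DegreePair
import Cfsg.Agent.Lib.OrderFive.FiveTwo
import Cfsg.Agent.Lib.OrderFive.Arith
import Cfsg.Agent.Lib.SmallSimple.Low
import Cfsg.Agent.Lib.SmallSimple.Order360
import Cfsg.Agent.S3331
import Cfsg.Agent.S1016

/-!
# A simple group all of whose element orders are at most five is `A₅` or `A₆`
-/

set_option autoImplicit false
set_option linter.style.haveILetI false
set_option linter.unusedSectionVars false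

namespace Cfsg.Agent.OrderFive

open Subgroup

universe u

variable {G : Type u} [Group G] [Fintype G] [IsSimpleGroup G]

theorem exists_card_exponents (h : Small G) :
    ∃ a b c : ℕ, Nat.card G = 2 ^ a * 3 ^ b * 5 ^ c := by
  classical
  have hn : Nat.card G ≠ 0 := Nat.card_pos.ne'
  have hsub : (Nat.card G).primeFactors ⊆ {2, 3, 5} := fun q hq => by
    obtain ⟨hp, hd, -⟩ := Nat.mem_primeFactors.1 hq
    rcases h.prime_cases hp hd with e | e | e <;> simp [e]
  have hprod := Nat.prod_factorization_pow_eq_self hn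
  rw [Finsupp.prod_of_support_subset (s := {2, 3, 5}) _ (by rwa [Nat.support_factorization]) _
    (fun _ _ => pow_zero _), Finset.prod_insert (by decide), Finset.prod_insert (by decide),
    Finset.prod_singleton] at hprod
  exact ⟨_, _, _, by rw [← mul_assoc] at hprod; exact hprod.symm⟩

theorem iso_alt_five_of_three (h : Small G) (hG : ¬ IsMulCommutative G) [Fact (Nat.Prime 3)]
    (A : Sylow 3 G) {v : G} (hv : Inverted (A : Subgroup G) v) (h3 : Nat.card (A : Subgroup G) = 3) :
    Nonempty (G ≃* alternatingGroup (Fin 5)) := by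
  obtain ⟨y, hyA, hy1⟩ : ∃ y ∈ (A : Subgroup G), y ≠ 1 := by
    refine (Subgroup.bot_or_exists_ne_one _).resolve_left fun hb => ?_
    rw [hb, Subgroup.card_bot] at h3
    omega
  have hgen : zpowers y = (A : Subgroup G) :=
    Subgroup.eq_of_le_of_card_ge (zpowers_le.2 hyA)
      (by rw [h3, Nat.card_zpowers, orderOf_eq_of_mem h le_rfl A.isPGroup' hyA hy1])
  have hC : centralizer ((A : Subgroup G) : Set G) = (A : Subgroup G) := by
    rw [← hgen, Blocks.centralizer_zpowers_eq, hv.cent y hyA hy1, hgen]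
  rcases Cfsg.Agent.S3331.result (A : Subgroup G) h3 hC with
    ⟨N, hN, -, hcop, hq⟩ | ⟨N, hN, hNc, -, ⟨φ⟩⟩ | ⟨⟨φ⟩⟩
  · exfalso
    rcases hN.eq_bot_or_eq_top with e | e
    · subst e
      let ψ : G ≃* G ⧸ (⊥ : Subgroup G) := QuotientGroup.quotientBot.symm
      have hc : Nat.card (G ⧸ (⊥ : Subgroup G)) = 3 ∨ Nat.card (G ⧸ (⊥ : Subgroup G)) = 6 := by
        rcases hq with hq | ⟨⟨φ⟩⟩
        · exact Or.inl hq
        · refine Or.inr ?_
          rw [Nat.card_congr φ.toEquiv, Nat.card_eq_fintype_card, Fintype.card_perm, Fintype.card_fin]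
          rfl
      rw [← Nat.card_congr ψ.toEquiv] at hc
      obtain ⟨-, -, h5⟩ := not_comm h hG
      omega
    · subst e
      rw [Subgroup.card_top] at hcop
      exact absurd (Nat.eq_one_of_dvd_coprimes hcop (not_comm h hG).2.1 dvd_rfl) (by norm_num)
  · rcases hN.eq_bot_or_eq_top with e | e
    · subst e
      exact ⟨QuotientGroup.quotientBot.symm.trans φ⟩
    · subst e
      exfalso
      have := Nat.card_congr φ.toEquiv
      rw [nat_card_alternatingGroup, Nat.card_fin, ← Subgroup.index_eq_card, Subgroup.index_top] at this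
      norm_num [Nat.factorial] at this
  · exfalso
    haveI : Finite (Matrix.ProjectiveSpecialLinearGroup (Fin 2) (ZMod 7)) := Finite.of_equiv G φ.toEquiv
    have hc := Nat.card_congr φ.toEquiv
    haveI : Fact (Nat.Prime 7) := ⟨by norm_num⟩
    rw [PSL2.card_PSL (F := ZMod 7), ZMod.card] at hc
    obtain ⟨-, -, h5⟩ := not_comm h hG
    rw [hc] at h5
    norm_num at h5

/-- The cases left by the block equation. -/
theorem card_of_equation {a b : ℕ} {Z w : ℤ} (ha : 2 ≤ a) (h5 : Z % 5 = 1) (h2 : 2 ≤ Z.natAbs)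
    (hd : Z.natAbs ∣ 2 ^ a * 3 ^ b * 5 ^ 1) (hd' : (1 + Z).natAbs ∣ 2 ^ a * 3 ^ b * 5 ^ 1)
    (hpar : 2 ∣ Z - w) (hlt : w.natAbs < Z.natAbs)
    (heq : ((2 ^ a * 3 ^ b * 5 ^ 1 : ℕ) : ℤ) * (Z - w) ^ 2 = 5 * ((2 ^ a : ℕ) : ℤ) ^ 2 * (Z * (1 + Z))) :
    2 ^ a * 3 ^ b * 5 ^ 1 = 60 ∨ 2 ^ a * 3 ^ b * 5 ^ 1 = 360 ∨ 2 ^ a * 3 ^ b * 5 ^ 1 = 1440 := by
  have hT : (0 : ℤ) < ((2 ^ a : ℕ) : ℤ) := by positivity
  have hkey : ((3 ^ b : ℕ) : ℤ) * (Z - w) ^ 2 = ((2 ^ a : ℕ) : ℤ) * (Z * (1 + Z)) := by
    push_cast at heq hT ⊢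
    refine mul_left_cancel₀ (a := 5 * (2 : ℤ) ^ a) (by positivity) ?_
    linear_combination heq
  have hZ : Z = -4 ∨ Z = -9 := by
    rcases (show (0 ≤ Z ∧ Z = (Z.natAbs : ℤ) ∧ (1 + Z).natAbs = Z.natAbs + 1) ∨
        (Z < 0 ∧ Z = -(Z.natAbs : ℤ) ∧ (1 + Z).natAbs + 1 = Z.natAbs) by omega) with ⟨-, e, e'⟩ | ⟨-, e, e'⟩
    · rw [e'] at hd'
      have := consecutive_two_three (by omega) (by omega) hd hd'
      omega
    · have := consecutive_two_three (a := (1 + Z).natAbs) (by omega) (by omega) hd' (by rw [e']; exact hd)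
      omega
  have key : ∀ (x y : ℕ) {u v : ℕ}, 3 ^ b * (2 ^ x * 3 ^ y) = 2 ^ a * (2 ^ u * 3 ^ v) →
      a + u = x ∧ b + y = v := fun x y u v e => by
    refine two_three_inj ?_ |>.imp Eq.symm id
    rw [pow_add, pow_add]
    linear_combination e
  rcases hZ with rfl | rfl
  · rcases (show w = -2 ∨ w = 0 ∨ w = 2 by omega) with rfl | rfl | rfl
    · have := key 2 0 (u := 2) (v := 1) (by norm_num; norm_num at hkey; exact_mod_cast hkey)
      omega
    · obtain ⟨e1, e2⟩ := key 4 0 (u := 2) (v := 1) (by norm_num; norm_num at hkey; exact_mod_cast hkey)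
      left
      rw [show a = 2 by omega, show b = 1 by omega]; norm_num
    · have := key 2 2 (u := 2) (v := 1) (by norm_num; norm_num at hkey; exact_mod_cast hkey)
      omega
  · rcases (show w = -7 ∨ w = -5 ∨ w = -3 ∨ w = -1 ∨ w = 1 ∨ w = 3 ∨ w = 5 ∨ w = 7 by omega) with
      rfl | rfl | rfl | rfl | rfl | rfl | rfl | rfl
    · have := key 2 0 (u := 3) (v := 2) (by norm_num; norm_num at hkey; exact_mod_cast hkey)
      omega
    · obtain ⟨e1, e2⟩ := key 4 0 (u := 3) (v := 2) (by norm_num; norm_num at hkey; exact_mod_cast hkey)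
      omega
    · have := key 2 2 (u := 3) (v := 2) (by norm_num; norm_num at hkey; exact_mod_cast hkey)
      omega
    · obtain ⟨e1, e2⟩ := key 6 0 (u := 3) (v := 2) (by norm_num; norm_num at hkey; exact_mod_cast hkey)
      right; left
      rw [show a = 3 by omega, show b = 2 by omega]; norm_num
    · exfalso
      norm_num at hkey
      have h25 : (5 : ℕ) ∣ 2 ^ a * 72 := ⟨3 ^ b * 20, by
        have : 2 ^ a * 72 = 3 ^ b * 100 := by exact_mod_cast hkey.symm
        omega⟩
      rcases (Nat.Prime.dvd_mul (by norm_num)).1 h25 with hh | hh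
      · exact not_dvd_two_pow (by norm_num) (by norm_num) a hh
      · norm_num at hh
    · have := key 4 2 (u := 3) (v := 2) (by norm_num; norm_num at hkey; exact_mod_cast hkey)
      omega
    · exfalso
      norm_num at hkey
      have h7 : (7 : ℕ) ∣ 2 ^ a * 72 := ⟨3 ^ b * 28, by
        have : 2 ^ a * 72 = 3 ^ b * 196 := by exact_mod_cast hkey.symm
        omega⟩
      rcases (Nat.Prime.dvd_mul (by norm_num)).1 h7 with hh | hh
      · exact not_dvd_two_pow (by norm_num) (by norm_num) a hh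
      · norm_num at hh
    · obtain ⟨e1, e2⟩ := key 8 0 (u := 3) (v := 2) (by norm_num; norm_num at hkey; exact_mod_cast hkey)
      right; right
      rw [show a = 5 by omega, show b = 2 by omega]; norm_num

/-- A simple group with all element orders at most five is `A₅` or `A₆`. -/
theorem Small.iso_alternating (h : Small G) (hG : ¬ IsMulCommutative G) :
    Nonempty (G ≃* alternatingGroup (Fin 5)) ∨ Nonempty (G ≃* alternatingGroup (Fin 6)) := by
  classical
  haveI h3f : Fact (Nat.Prime 3) := ⟨Nat.prime_three⟩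
  haveI h5f : Fact (Nat.Prime 5) := ⟨by norm_num⟩
  haveI := Fact.mk Nat.prime_two
  obtain ⟨a, b, c, hg⟩ := exists_card_exponents h
  rcases h.exists_index_two hG with ⟨A, hA⟩ | ⟨P, hP⟩
  · left
    obtain ⟨v, hv⟩ := h.exists_inverted_three hG A
    refine iso_alt_five_of_three h hG A hv ?_
    obtain ⟨k, hk⟩ := A.isPGroup'.exists_card_eq
    have hk1 : 1 ≤ k := by
      by_contra hk0
      refine sylow_ne_bot A (not_comm h hG).2.1 (Subgroup.eq_bot_of_card_eq _ ?_)
      rw [hk, show k = 0 by omega, pow_zero]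
    have h3n : 3 ∣ Nat.card (A : Subgroup G) := hk ▸ dvd_pow_self 3 (by omega)
    obtain ⟨d, hd2, hdn, hdn', hdc⟩ := exists_degree_pair hG hv (odd_card_sylow le_rfl A)
      (Nat.le_of_dvd Nat.card_pos h3n) hA
    have h3d : 3 ∣ d - 1 ∨ 3 ∣ d + 2 := hdc.imp h3n.trans h3n.trans
    rw [hg] at hdn hdn'
    have hsm := consecutive_two_five (by omega) (by omega) hdn hdn'
    obtain rfl : d = 4 := by omega
    rcases hdc with hc | hc
    · have := Nat.le_of_dvd (by norm_num) hc
      have := Nat.le_of_dvd Nat.card_pos h3n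
      omega
    · have h6 := Nat.le_of_dvd (by norm_num) hc
      rw [hk] at hc h6 ⊢
      rcases (show k = 1 ∨ 2 ≤ k by omega) with e | e
      · rw [e, pow_one]
      · have : 3 ^ 2 ≤ 3 ^ k := Nat.pow_le_pow_right (by norm_num) e
        omega
  obtain ⟨v, hv⟩ := h.exists_inverted_five P (hP ▸ dvd_rfl)
  obtain ⟨k, hk⟩ := P.isPGroup'.exists_card_eq
  have hk1 : 1 ≤ k := by
    by_contra hk0
    refine sylow_ne_bot P (not_comm h hG).2.2 (Subgroup.eq_bot_of_card_eq _ ?_)
    rw [hk, show k = 0 by omega, pow_zero]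
  have hP5 : Nat.card (P : Subgroup G) = 5 := by
    have h5n : 5 ∣ Nat.card (P : Subgroup G) := hk ▸ dvd_pow_self 5 (by omega)
    obtain ⟨d, hd2, hdn, hdn', hdc⟩ := exists_degree_pair hG hv (odd_card_sylow (by norm_num) P)
      (by have := Nat.le_of_dvd Nat.card_pos h5n; omega) hP
    have h5d : 5 ∣ d - 1 ∨ 5 ∣ d + 2 := hdc.imp h5n.trans h5n.trans
    rw [hg] at hdn hdn'
    have hsm := consecutive_two_three (by omega) (by omega) hdn hdn'
    have h10 : Nat.card (P : Subgroup G) ≤ 10 := by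
      rcases hdc with hc | hc
      · exact (Nat.le_of_dvd (by omega) hc).trans (by omega)
      · exact (Nat.le_of_dvd (by omega) hc).trans (by omega)
    rw [hk] at h10 ⊢
    rcases (show k = 1 ∨ 2 ≤ k by omega) with e | e
    · rw [e, pow_one]
    · have : 5 ^ 2 ≤ 5 ^ k := Nat.pow_le_pow_right (by norm_num) e
      omega
  have hc1 : c = 1 := by
    have e := Sylow.card_eq_multiplicity P
    rw [hP5, hg, Nat.factorization_mul (by positivity) (by positivity),
      Nat.factorization_mul (by positivity) (by positivity), Nat.prime_two.factorization_pow,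
      Nat.prime_three.factorization_pow, (Fact.out : (5 : ℕ).Prime).factorization_pow] at e
    simp at e
    exact (Nat.pow_right_injective (by norm_num : 2 ≤ 5) (e.trans rfl)).symm
  subst hc1
  set m := 2 ^ a * 3 ^ b with hm
  have hm5 : ¬ 5 ∣ m := fun hd => by
    rcases (Nat.Prime.dvd_mul (by norm_num)).1 hd with hh | hh
    · exact not_dvd_two_pow (by norm_num) (by norm_num) a hh
    · exact absurd ((Nat.prime_dvd_prime_iff_eq (by norm_num) Nat.prime_three).1
        ((by norm_num : (5 : ℕ).Prime).dvd_of_dvd_pow hh)) (by norm_num)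
  have hr : (m * m ^ 3) % 5 = 1 := by
    have hmod : m % 5 = 1 ∨ m % 5 = 2 ∨ m % 5 = 3 ∨ m % 5 = 4 := by omega
    rw [← pow_succ', Nat.pow_mod]
    rcases hmod with e | e | e | e <;> rw [e]
  have hCP : centralizer ((P : Subgroup G) : Set G) = (P : Subgroup G) := by
    refine le_antisymm (fun x hx => ?_) fun x hx =>
      mem_centralizer_iff.2 fun y hy => hv.isMulCommutative hy hx
    obtain ⟨y, hyP, hy1⟩ := (Subgroup.bot_or_exists_ne_one (P : Subgroup G)).resolve_left
      (sylow_ne_bot P (not_comm h hG).2.2)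
    rw [← hv.cent y hyP hy1, mem_centralizer_singleton_iff]
    exact (mem_centralizer_iff.1 hx y hyP).symm
  have ha : 2 ≤ a := by
    obtain ⟨u, hu⟩ := exists_prime_orderOf_dvd_card' (G := G) 2 (not_comm h hG).1
    obtain ⟨t, ht, htu, htc⟩ := exists_second_involution hG hu
    obtain ⟨i, hi⟩ := (h.centralizer_isPGroup Nat.prime_two hu).exists_card_eq
    have hdvd : 2 ^ i ∣ 2 ^ a * (3 ^ b * 5 ^ 1) := by
      rw [← mul_assoc, ← hg, ← hi]; exact card_subgroup_dvd_card _
    have hia : i ≤ a := by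
      refine (Nat.pow_dvd_pow_iff_le_right (by norm_num)).1 (Nat.Coprime.dvd_of_dvd_mul_right ?_ hdvd)
      exact Nat.Coprime.pow_left _ (Nat.Coprime.mul_right (Nat.Coprime.pow_right _ (by norm_num))
        (Nat.Coprime.pow_right _ (by norm_num)))
    by_contra ha
    have : 2 ^ i ≤ 2 := by
      calc 2 ^ i ≤ 2 ^ 1 := Nat.pow_le_pow_right (by norm_num) (by omega)
        _ = 2 := pow_one 2
    have h3 : ({1, u, t} : Set G) ⊆ centralizer ({u} : Set G) := by
      intro x hx
      simp only [Set.mem_insert_iff, Set.mem_singleton_iff] at hx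
      rcases hx with rfl | rfl | rfl
      exacts [one_mem _, mem_centralizer_singleton_iff.2 rfl, mem_centralizer_singleton_iff.2 htc.eq]
    have := Set.ncard_le_ncard h3 (Set.toFinite _)
    have hu1 : (1 : G) ≠ u := fun e => by rw [← e, orderOf_one] at hu; omega
    have ht1 : (1 : G) ≠ t := fun e => by rw [← e, orderOf_one] at ht; omega
    rw [Set.ncard_insert_of_notMem (by simp [hu1, ht1]), Set.ncard_pair htu.symm,
      ← Nat.card_coe_set_eq] at this
    have hi' : Nat.card (centralizer ({u} : Set G)) = 2 ^ i := hi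
    have : 3 ≤ 2 ^ i := hi' ▸ this
    omega
  obtain ⟨Z, w, hZ5, hZ2, hZd, hZd', hpar, hlt, heq⟩ := five_equation hG (m := m) (r := m ^ 3)
    (T := 2 ^ a) (s := a) rfl (by rw [hg, hm]; ring) hm5 hr P (by rw [hCP, hP5])
    (by rw [hCP, hP]) rfl (by omega) (by rw [hg]; exact Dvd.intro _ (mul_assoc _ _ _).symm)
    fun t ht hTt => by
      obtain ⟨i, hi⟩ := (h.centralizer_isPGroup Nat.prime_two ht).exists_card_eq
      rw [hi] at hTt ⊢
      refine (Nat.dvd_antisymm ?_ hTt)
      refine Nat.Coprime.dvd_of_dvd_mul_right ?_ (show 2 ^ i ∣ 2 ^ a * (3 ^ b * 5 ^ 1) by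
        rw [← mul_assoc, ← hg, ← hi]; exact card_subgroup_dvd_card _)
      exact Nat.Coprime.pow_left _ (Nat.Coprime.mul_right (Nat.Coprime.pow_right _ (by norm_num))
        (Nat.Coprime.pow_right _ (by norm_num)))
  rw [hg] at hZd hZd' heq
  rcases card_of_equation ha hZ5 hZ2 hZd hZd' hpar hlt heq with e | e | e
  · exact Or.inl (SmallSimple.iso_alternating_five hG (hg.trans e))
  · exact Or.inr (SmallSimple.iso_alternating_six (hg.trans e))
  · exact absurd (hg.trans e) Cfsg.Agent.S1016.result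

end Cfsg.Agent.OrderFive
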