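import Mathlib
import Cfsg.Agent.Lib.OrderFive.Basic

/-!
# A group with element orders at most five and normal subgroup `A₅` or `A₆` is equal to it
-/

set_option autoImplicit false
set_option linter.style.haveILetI false
set_option linter.unusedSectionVars false

namespace Cfsg.Agent.OrderFive

open Subgroup

universe u

variable {Q : Type u} [Group Q] [Finite Q] (M : Subgroup Q) [M.Normal]

/-- An element outside a normal subgroup of index two in the group it generates with it. -/
theorem Small.orderOf_outer (h : Small Q) {x : Q} (hx : x ∉ M) (hx2 : x * x ∈ M) :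
    orderOf x = 2 ∨ orderOf x = 4 := by
  have hodd : ¬ Odd (orderOf x) := fun ⟨k, hk⟩ => hx (by
    have e : x = (x * x) ^ (k + 1) := by
      rw [← pow_two, ← pow_mul, show 2 * (k + 1) = orderOf x + 1 by omega, pow_succ, pow_orderOf_eq_one,
        one_mul]
    rw [e]; exact pow_mem hx2 _)
  rcases h.orderOf_cases x with e | e | e | e | e
  · exact absurd (by rw [e]; exact odd_one) hodd
  · exact Or.inl e
  · exact absurd (by rw [e]; decide) hodd
  · exact Or.inr e
  · exact absurd (by rw [e]; decide) hodd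

theorem Small.outer_pow_four (h : Small Q) {x : Q} (hx : x ∉ M) (hx2 : x * x ∈ M) : x ^ 4 = 1 :=
  orderOf_dvd_iff_pow_eq_one.1 (by rcases h.orderOf_outer M hx hx2 with e | e <;> rw [e]; norm_num)

theorem mul_not_mem {x m : Q} (hx : x ∉ M) (hm : m ∈ M) : x * m ∉ M := fun h =>
  hx (by simpa using mul_mem h (inv_mem hm))

theorem mul_sq_mem {x m : Q} (hx2 : x * x ∈ M) (hm : m ∈ M) : x * m * (x * m) ∈ M := by
  rw [show x * m * (x * m) = x * m * x⁻¹ * (x * x) * m by group]
  exact mul_mem (mul_mem (Subgroup.Normal.conj_mem inferInstance m hm x) hx2) hm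

/-- No element of order two or four commutes with one of order three. -/
theorem Small.not_commute_outer (h : Small Q) {y : Q} (hy : orderOf y = 3) {x : Q}
    (hx : orderOf x = 2 ∨ orderOf x = 4) : ¬ Commute x y := fun hc => by
  rcases hx with e | e
  · exact h.not_commute_two e Nat.prime_three le_rfl hy hc
  · refine h.not_commute_two (v := x ^ 2) ?_ Nat.prime_three le_rfl hy (hc.pow_left 2)
    rw [orderOf_pow' _ two_ne_zero, e]; norm_num

/-- With an element of order three of `M` inverted in `M` there is no involution outside `M`. -/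
theorem Small.orderOf_outer_eq_four (h : Small Q) {y v : Q} (hy : y ∈ M) (hy3 : orderOf y = 3) (hv : v ∈ M)
    (hinv : v * y * v⁻¹ = y⁻¹) {x : Q} (hx : x ∉ M) (hx2 : x * x ∈ M) : orderOf x = 4 := by
  refine (h.orderOf_outer M hx hx2).resolve_left fun ho => ?_
  have hu := mul_self_of_orderOf ho
  have hy' : y * y * y = 1 := by rw [← pow_three', ← hy3, pow_orderOf_eq_one]
  -- an outer involution inverting `y`
  have main : ∀ u : Q, u ∉ M → u * u = 1 → (u * y) * (u * y) = 1 → False := fun u hu1 hu2 huy => by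
    have e : u * y * u⁻¹ = y⁻¹ := by
      refine eq_inv_of_mul_eq_one_left ?_
      rw [inv_eq_of_mul_eq_one_right hu2]
      calc u * y * u * y = u * y * (u * y) := by group
        _ = 1 := huy
    refine h.not_commute_outer hy3 (h.orderOf_outer M (mul_not_mem M hu1 hv)
      (mul_sq_mem M (by rw [hu2]; exact one_mem M) hv)) ?_
    refine mul_inv_eq_iff_eq_mul.1 ?_
    calc u * v * y * (u * v)⁻¹ = u * (v * y * v⁻¹) * u⁻¹ := by group
      _ = y := by rw [hinv, ← conj_inv, e, inv_inv]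
  rcases h.orderOf_outer M (mul_not_mem M hx hy) (mul_sq_mem M hx2 hy) with e | e
  · exact main x hx hu (by rw [← pow_two, ← e, pow_orderOf_eq_one])
  · set c := x * y * x * y with hc
    have hcM : c ∈ M := by
      rw [hc, mul_assoc (x * y)]; exact mul_sq_mem M hx2 hy
    refine main (c * x * c⁻¹) (fun hm => hx ?_) ?_ ?_
    · have := Subgroup.Normal.conj_mem inferInstance _ hm c⁻¹
      rwa [show c⁻¹ * (c * x * c⁻¹) * c⁻¹⁻¹ = x by group] at this
    · rw [show c * x * c⁻¹ * (c * x * c⁻¹) = c * (x * x) * c⁻¹ by group, hu]; group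
    · rw [hc, word_four hu hy' (by rw [← e, pow_orderOf_eq_one])]
      have hT : x * y * x * y⁻¹ * x = x * y * x * (x * y)⁻¹ := by
        rw [mul_inv_rev, inv_of_orderOf ho]; group
      rw [hT]
      calc y⁻¹ * (x * y * x * (x * y)⁻¹) * y * (y⁻¹ * (x * y * x * (x * y)⁻¹) * y)
          = y⁻¹ * (x * y * (x * x) * (x * y)⁻¹) * y := by group
        _ = 1 := by rw [hu]; group

/-- Outside of `A₅` or `A₆` there is no element of odd prime order modulo it. -/
theorem Small.not_outer_odd (h : Small Q) [Fact (Nat.Prime 5)] {z v : Q} (hz : z ∈ M) (hzo : orderOf z = 5)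
    (hv : v ∈ M) (hvo : orderOf v = 2) (hinv : v * z * v⁻¹ = z⁻¹) (h25 : ¬ 25 ∣ Nat.card M) {x : Q}
    {q : ℕ} (hq : q.Prime) (hq2 : q ≠ 2) (hx : x ∉ M) (hxq : x ^ q ∈ M) : False := by
  have hzM : orderOf (⟨z, hz⟩ : M) = 5 := by rw [Subgroup.orderOf_mk, hzo]
  obtain ⟨P, hP⟩ := IsPGroup.exists_le_sylow
    (IsPGroup.of_card (p := 5) (n := 1) (by rw [Nat.card_zpowers, hzM, pow_one]) :
      IsPGroup 5 (zpowers (⟨z, hz⟩ : M)))
  have hP5 : Nat.card (P : Subgroup M) = 5 := by
    obtain ⟨k, hk⟩ := P.isPGroup'.exists_card_eq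
    have h5 := Subgroup.card_dvd_of_le hP
    rw [Nat.card_zpowers, hzM, hk] at h5
    rcases (show k = 0 ∨ k = 1 ∨ 2 ≤ k by omega) with e | e | e
    · subst e; norm_num at h5
    · rw [hk, e, pow_one]
    · exact absurd ((pow_dvd_pow 5 e).trans (hk ▸ Subgroup.card_subgroup_dvd_card (P : Subgroup M))) h25
  have hPz : (P : Subgroup M).map M.subtype = zpowers z := by
    rw [← Subgroup.eq_of_le_of_card_ge hP (by rw [hP5, Nat.card_zpowers, hzM]), MonoidHom.map_zpowers]
    rfl
  have hfr : x ∈ normalizer (((P : Subgroup M).map M.subtype : Subgroup Q) : Set Q) ⊔ M :=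
    (Sylow.normalizer_sup_eq_top P).symm ▸ Subgroup.mem_top x
  rw [hPz] at hfr
  obtain ⟨n, hn, m, hm, rfl⟩ := Subgroup.mem_sup_of_normal_right.1 hfr
  have hnM : n ∉ M := fun hn' => hx (mul_mem hn' hm)
  have hnq : n ^ q ∈ M := by
    rw [← QuotientGroup.eq_one_iff, QuotientGroup.mk_pow] at hxq ⊢
    rwa [QuotientGroup.mk_mul, (QuotientGroup.eq_one_iff m).2 hm, mul_one] at hxq
  have hno : orderOf (n : Q ⧸ M) = q := by
    haveI := Fact.mk hq
    exact orderOf_eq_prime ((QuotientGroup.eq_one_iff _).2 hnq) fun e => hnM ((QuotientGroup.eq_one_iff n).1 e)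
  have hdvd : q ∣ orderOf n := hno ▸ orderOf_map_dvd (QuotientGroup.mk' M) n
  have hord : orderOf n = q ∧ (q = 3 ∨ q = 5) := by
    obtain ⟨d, hd⟩ := hdvd
    have := h n
    have := orderOf_pos n
    have h3 : 3 ≤ q := by have := hq.two_le; omega
    have h4 : q ≠ 4 := fun e => by subst e; norm_num at hq
    have hd1 : d = 1 := by
      by_contra hd1
      have : d ≠ 0 := fun e => by rw [e, mul_zero] at hd; omega
      have : q * 2 ≤ q * d := Nat.mul_le_mul_left q (by omega)
      omega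
    rw [hd1, mul_one] at hd
    omega
  have hz5 : z ^ 5 = 1 := by rw [← hzo, pow_orderOf_eq_one]
  have hmem : n * z * n⁻¹ ∈ zpowers z := (mem_normalizer_iff.1 hn z).1 (mem_zpowers z)
  obtain ⟨i, hi⟩ := (mem_powers_iff_mem_zpowers).2 hmem
  simp only at hi
  have hpow : ∀ k : ℕ, n ^ k * z * (n ^ k)⁻¹ = z ^ (i ^ k) := fun k => by
    induction k with
    | zero => simp
    | succ k ih =>
      rw [pow_succ', show n * n ^ k * z * (n * n ^ k)⁻¹ = n * (n ^ k * z * (n ^ k)⁻¹) * n⁻¹ by group, ih,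
        ← conj_pow, ← hi, ← pow_mul, pow_succ']
  have hq1 := hpow (orderOf n)
  rw [pow_orderOf_eq_one, one_mul, inv_one, mul_one, hord.1] at hq1
  have hmod : i ^ q % 5 = 1 := by
    have : z ^ (i ^ q) = z ^ 1 := by rw [pow_one]; exact hq1.symm
    rw [pow_eq_pow_iff_modEq, hzo, Nat.ModEq] at this
    simpa using this
  have hi1 : i % 5 = 1 := by
    have hlt : i % 5 < 5 := Nat.mod_lt _ (by norm_num)
    rw [Nat.pow_mod] at hmod
    rcases hord.2 with e | e <;> subst e <;> interval_cases hh : i % 5 <;> first | omega | norm_num at hmod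
  have hcomm : Commute n z := by
    refine mul_inv_eq_iff_eq_mul.1 ?_
    rw [← hi, ← Nat.mod_add_div i 5, hi1, pow_add, pow_mul, hz5, one_pow, mul_one, pow_one]
  rcases hord.2 with e | e
  · have := h.mul_le hcomm (by rw [hord.1, e, hzo]; norm_num)
    rw [hord.1, e, hzo] at this
    omega
  · have hinvn : v * n * v⁻¹ = n⁻¹ := by
      refine inverts_of_fpf (H := centralizer ({z} : Set Q)) (mul_self_of_orderOf hvo) (fun c hc => ?_)
        (fun c hc hfix => ?_) n (mem_centralizer_singleton_iff.2 hcomm)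
      · rw [mem_centralizer_singleton_iff] at hc ⊢
        have hz' : v * z⁻¹ * v⁻¹ = z := by rw [← conj_inv, hinv, inv_inv]
        calc v * c * v⁻¹ * z = v * c * v⁻¹ * (v * z⁻¹ * v⁻¹) := by rw [hz']
          _ = v * (c * z⁻¹) * v⁻¹ := by group
          _ = v * (z⁻¹ * c) * v⁻¹ := by rw [(Commute.inv_right hc : Commute c z⁻¹).eq]
          _ = (v * z⁻¹ * v⁻¹) * (v * c * v⁻¹) := by group
          _ = z * (v * c * v⁻¹) := by rw [hz']
      · obtain ⟨k, hk⟩ := IsPGroup.iff_orderOf.1 (h.centralizer_isPGroup (by norm_num) hzo) ⟨c, hc⟩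
        rw [← Subgroup.orderOf_coe] at hk
        exact h.eq_one_of_fix hvo (by norm_num : (5 : ℕ).Prime) (by norm_num) hk
          (mul_inv_eq_iff_eq_mul.1 hfix)
    have hn2 : (n : Q ⧸ M) ^ 2 = 1 := by
      have h' := congrArg (fun a : Q => (a : Q ⧸ M)) hinvn
      simp only [QuotientGroup.mk_mul, QuotientGroup.mk_inv, (QuotientGroup.eq_one_iff v).2 hv, one_mul,
        inv_one, mul_one] at h'
      rw [pow_two]; exact mul_eq_one_iff_eq_inv.2 h'
    have := orderOf_dvd_of_pow_eq_one hn2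
    rw [hno] at this
    exact hq2 ((Nat.prime_dvd_prime_iff_eq hq Nat.prime_two).1 this)

/-- If squares of all outer elements avoid the identity, the shape of `A₆` allows none. -/
theorem Small.no_outer_six (h : Small Q) {v c s : Q} (hv : v ∈ M) (hc : c ∈ M) (hs : s ∈ M)
    (hvv : v * v = 1) (hcc : c * c = v) (hss : s * s = 1) (hsc : s * c * s⁻¹ = c⁻¹) (hv1 : v ≠ 1)
    (hcent : ∀ g ∈ M, g * v = v * g → g = 1 ∨ g = c ∨ g = v ∨ g = c⁻¹ ∨ g = s ∨ g = s * c ∨ g = s * v ∨
      g = s * c⁻¹) (hs1 : s ≠ 1 ∧ s ≠ c ∧ s ≠ v ∧ s ≠ c⁻¹)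
    (hfour : ∀ x : Q, x ∉ M → x * x ∈ M → orderOf x = 4)
    {x : Q} (hx : x ∉ M) (hxv : x * x = v) : False := by
  have hvi : v⁻¹ = v := inv_eq_of_mul_eq_one_right hvv
  have hsi : s⁻¹ = s := inv_eq_of_mul_eq_one_right hss
  have hcv : c * v = v * c := by rw [← hcc, mul_assoc]
  have hsv : s * v = v * s := by
    rw [← mul_inv_eq_iff_eq_mul, ← hcc, ← conj_mul, hsc, ← mul_inv_rev, hcc, hvi]
  have hxv' : x * v = v * x := by rw [← hxv, mul_assoc]
  have hne : ∀ d ∈ M, x * d * (x * d) ≠ 1 := fun d hd e => by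
    have ho := hfour _ (mul_not_mem M hx hd) (mul_sq_mem M (hxv ▸ hv) hd)
    have := orderOf_dvd_of_pow_eq_one (x := x * d) (n := 2) (by rw [pow_two]; exact e)
    rw [ho] at this
    norm_num at this
  have hquad : ∀ d ∈ M, (x * d * x⁻¹ * v * d) * (x * d * x⁻¹ * v * d) = 1 := fun d hd => by
    have := h.outer_pow_four M (mul_not_mem M hx hd) (mul_sq_mem M (hxv ▸ hv) hd)
    rw [← this, ← hxv, pow_succ, pow_succ, pow_two]
    group
  have hexp : ∀ d : Q, x * d * (x * d) = x * d * x⁻¹ * v * d := fun d => by rw [← hxv]; group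
  have hconjv : ∀ g, g * v = v * g → x * g * x⁻¹ * v = v * (x * g * x⁻¹) := fun g hg => by
    have : x * v * x⁻¹ = v := by rw [hxv', mul_inv_cancel_right]
    calc x * g * x⁻¹ * v = x * g * x⁻¹ * (x * v * x⁻¹) := by rw [this]
      _ = x * (g * v) * x⁻¹ := by group
      _ = (x * v * x⁻¹) * (x * g * x⁻¹) := by rw [hg]; group
      _ = v * (x * g * x⁻¹) := by rw [this]
  have hmemM : ∀ g ∈ M, x * g * x⁻¹ ∈ M := fun g hg => Subgroup.Normal.conj_mem inferInstance g hg x
  -- `x` inverts `c`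
  have hsq : x * c * x⁻¹ * (x * c * x⁻¹) = v := by
    rw [show x * c * x⁻¹ * (x * c * x⁻¹) = x * (c * c) * x⁻¹ by group, hcc, hxv', mul_inv_cancel_right]
  have hsvsv : s * v * (s * v) = 1 := by
    rw [show s * v * (s * v) = s * (v * s) * v by group, ← hsv,
      show s * (s * v) * v = (s * s) * (v * v) by group, hss, hvv, one_mul]
  have hscsc : s * c * (s * c) = 1 := by
    rw [show s * c * (s * c) = (s * c * s⁻¹) * (s * s) * c by group, hsc, hss]; group
  have hsc'sc' : s * c⁻¹ * (s * c⁻¹) = 1 := by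
    rw [show s * c⁻¹ * (s * c⁻¹) = (s * c * s⁻¹)⁻¹ * (s * s) * c⁻¹ by group, hsc, hss]; group
  have hci : c⁻¹ * c⁻¹ = v := by rw [← mul_inv_rev, hcc, hvi]
  have hc_cases : x * c * x⁻¹ = c ∨ x * c * x⁻¹ = c⁻¹ := by
    rcases hcent _ (hmemM c hc) (hconjv c hcv) with e | e | e | e | e | e | e | e
    all_goals rw [e] at hsq
    · rw [one_mul] at hsq; exact absurd hsq.symm hv1
    · exact Or.inl e
    · rw [hvv] at hsq; exact absurd hsq.symm hv1
    · exact Or.inr e
    · rw [hss] at hsq; exact absurd hsq.symm hv1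
    · rw [hscsc] at hsq; exact absurd hsq.symm hv1
    · rw [hsvsv] at hsq; exact absurd hsq.symm hv1
    · rw [hsc'sc'] at hsq; exact absurd hsq.symm hv1
  have hxc : x * c * x⁻¹ = c⁻¹ := hc_cases.resolve_left fun e => by
    refine hne c hc ?_
    rw [hexp, e, hcv, mul_assoc, hcc, hvv]
  have hxs : x * s * x⁻¹ * (x * s * x⁻¹) = 1 := by
    rw [show x * s * x⁻¹ * (x * s * x⁻¹) = x * (s * s) * x⁻¹ by group, hss]; group
  have hxcs : ∀ k : Q, x * s * x⁻¹ = k → k ≠ c ∧ k ≠ c⁻¹ := fun k e => by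
    refine ⟨fun e' => ?_, fun e' => ?_⟩ <;> subst e' <;> rw [e] at hxs
    · exact hv1 (hcc.symm.trans hxs)
    · exact hv1 (hci.symm.trans hxs)
  rcases hcent _ (hmemM s hs) (hconjv s hsv) with e | e | e | e | e | e | e | e
  · exact hs1.1 (conj_eq_one_iff.1 e)
  · exact (hxcs _ e).1 rfl
  · refine hs1.2.2.1 ?_
    have h' : x * s * x⁻¹ = x * v * x⁻¹ := by rw [e, hxv', mul_inv_cancel_right]
    exact mul_left_cancel (mul_right_cancel h')
  · exact (hxcs _ e).2 rfl
  · -- `x` centralises `s`: `x s c` is an outer involution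
    refine hne (s * c) (mul_mem hs hc) ?_
    rw [hexp, show x * (s * c) * x⁻¹ = (x * s * x⁻¹) * (x * c * x⁻¹) by group, e, hxc]
    calc s * c⁻¹ * v * (s * c) = s * c⁻¹ * (v * s) * c := by group
      _ = s * c⁻¹ * s⁻¹ * (s * s) * v * c := by rw [← hsv]; group
      _ = (s * c * s⁻¹)⁻¹ * (v * c) := by rw [hss]; group
      _ = c * c * v := by rw [hsc, inv_inv, ← hcv, ← mul_assoc]
      _ = 1 := by rw [hcc, hvv]
  · have h1 := hquad s hs
    rw [e] at h1
    refine hv1 ?_
    rw [← h1]
    have e1 : s * c * v * s = c⁻¹ * v := by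
      calc s * c * v * s = s * c * (v * s) := by group
        _ = s * c * s⁻¹ * (s * s) * v := by rw [← hsv]; group
        _ = c⁻¹ * v := by rw [hsc, hss, mul_one]
    rw [e1, show c⁻¹ * v * (c⁻¹ * v) = c⁻¹ * (v * c⁻¹) * v by group,
      ← (Commute.inv_left hcv : Commute c⁻¹ v).eq,
      show c⁻¹ * (c⁻¹ * v) * v = c⁻¹ * c⁻¹ * (v * v) by group, hci, hvv, mul_one]
  · refine hne s hs ?_
    rw [hexp, e]
    calc s * v * v * s = s * (v * v) * s := by group
      _ = 1 := by rw [hvv, mul_one, hss]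
  · have h1 := hquad s hs
    rw [e] at h1
    refine hv1 ?_
    rw [← h1]
    have e1 : s * c⁻¹ * v * s = c * v := by
      calc s * c⁻¹ * v * s = s * c⁻¹ * (v * s) := by group
        _ = (s * c * s⁻¹)⁻¹ * (s * s) * v := by rw [← hsv]; group
        _ = c * v := by rw [hsc, hss, inv_inv, mul_one]
    rw [e1, show c * v * (c * v) = c * (v * c) * v by group, ← hcv,
      show c * (c * v) * v = c * c * (v * v) by group, hcc, hvv, mul_one]

/-- The same for the shape of `A₅`. -/
theorem Small.no_outer_five (h : Small Q) {v s y : Q} (hv : v ∈ M) (hs : s ∈ M) (hy : y ∈ M)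
    (hvv : v * v = 1) (hss : s * s = 1) (hsv : s * v = v * s) (hne' : s ≠ 1 ∧ s ≠ v)
    (hyv : y * v * y⁻¹ = s) (hys : y * s * y⁻¹ = s * v)
    (hcent : ∀ g ∈ M, g * v = v * g → g = 1 ∨ g = v ∨ g = s ∨ g = s * v)
    (hfour : ∀ x : Q, x ∉ M → x * x ∈ M → orderOf x = 4)
    {x : Q} (hx : x ∉ M) (hxv : x * x = v) : False := by
  have hxv' : x * v = v * x := by rw [← hxv, mul_assoc]
  have hsvsv : s * v * (s * v) = 1 := by
    rw [show s * v * (s * v) = s * (v * s) * v by group, ← hsv,
      show s * (s * v) * v = (s * s) * (v * v) by group, hss, hvv, one_mul]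
  have hne : ∀ d ∈ M, x * d * (x * d) ≠ 1 := fun d hd e => by
    have ho := hfour _ (mul_not_mem M hx hd) (mul_sq_mem M (hxv ▸ hv) hd)
    have := orderOf_dvd_of_pow_eq_one (x := x * d) (n := 2) (by rw [pow_two]; exact e)
    rw [ho] at this
    norm_num at this
  have hxs : x * s * x⁻¹ = s := by
    have hm : x * s * x⁻¹ ∈ M := Subgroup.Normal.conj_mem inferInstance s hs x
    have hc : x * s * x⁻¹ * v = v * (x * s * x⁻¹) := by
      have : x * v * x⁻¹ = v := by rw [hxv', mul_inv_cancel_right]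
      calc x * s * x⁻¹ * v = x * s * x⁻¹ * (x * v * x⁻¹) := by rw [this]
        _ = x * (s * v) * x⁻¹ := by group
        _ = (x * v * x⁻¹) * (x * s * x⁻¹) := by rw [hsv]; group
        _ = v * (x * s * x⁻¹) := by rw [this]
    rcases hcent _ hm hc with e | e | e | e
    · exact absurd (conj_eq_one_iff.1 e) hne'.1
    · refine absurd ?_ hne'.2
      have h' : x * s * x⁻¹ = x * v * x⁻¹ := by rw [e, hxv', mul_inv_cancel_right]
      exact mul_left_cancel (mul_right_cancel h')
    · exact e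
    · exfalso
      refine hne s hs ?_
      rw [show x * s * (x * s) = x * s * x⁻¹ * (x * x) * s by group, e, hxv,
        show s * v * v * s = s * (v * v) * s by group, hvv, mul_one, hss]
  have hxs' : x * s = s * x := mul_inv_eq_iff_eq_mul.1 hxs
  set x' := y * x * y⁻¹ with hx'
  have hx'v : x' * v = v * x' := by
    have hx'sv : x' * (s * v) = (s * v) * x' := by
      rw [← hys, hx', show y * x * y⁻¹ * (y * s * y⁻¹) = y * (x * s) * y⁻¹ by group, hxs']; group
    have hx's : x' * s = s * x' := by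
      rw [← hyv, hx', show y * x * y⁻¹ * (y * v * y⁻¹) = y * (x * v) * y⁻¹ by group, hxv']; group
    calc x' * v = x' * (s * s) * v := by rw [hss, mul_one]
      _ = (x' * s) * (s * v) := by group
      _ = (s * x') * (s * v) := by rw [hx's]
      _ = s * (x' * (s * v)) := by group
      _ = (s * s) * v * x' := by rw [hx'sv]; group
      _ = v * x' := by rw [hss, one_mul]
  have ha : x⁻¹ * x' ∈ M := by
    rw [hx', show x⁻¹ * (y * x * y⁻¹) = x⁻¹ * y * x * y⁻¹ by group]
    have := Subgroup.Normal.conj_mem inferInstance y hy x⁻¹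
    rw [inv_inv] at this
    exact mul_mem this (inv_mem hy)
  have hav : x⁻¹ * x' * v = v * (x⁻¹ * x') := by
    exact ((Commute.inv_left hxv' : Commute x⁻¹ v).mul_left (hx'v : Commute x' v)).eq
  have hx2 : x' * x' = s := by
    rw [hx', show y * x * y⁻¹ * (y * x * y⁻¹) = y * (x * x) * y⁻¹ by group, hxv, hyv]
  have hax : ∀ a, x⁻¹ * x' = a → a * a = 1 → x * a = a * x → False := fun a ea ha2 hax => by
    refine hne'.2 ?_
    have e : x' = x * a := by rw [← ea, mul_inv_cancel_left]
    rw [← hx2, e, show x * a * (x * a) = x * (a * x) * a by group, ← hax,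
      show x * (x * a) * a = x * x * (a * a) by group, hxv, ha2, mul_one]
  rcases hcent _ ha hav with e | e | e | e
  · exact hax 1 e (one_mul _) (by simp)
  · exact hax v e hvv hxv'
  · exact hax s e hss hxs'
  · exact hax (s * v) e hsvsv (by rw [← mul_assoc, hxs', mul_assoc, hxv', ← mul_assoc])

end Cfsg.Agent.OrderFive
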