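import Mathlib
import Cfsg.Agent.Lib.OrderFive.Socle

/-!
# With element orders at most five, a normal `A₅` or `A₆` is the whole group
-/

set_option autoImplicit false
set_option linter.style.haveILetI false
set_option linter.unusedSectionVars false

namespace Cfsg.Agent.OrderFive

open Subgroup Equiv

universe u

abbrev A5 := alternatingGroup (Fin 5)
abbrev A6 := alternatingGroup (Fin 6)

/-- An element of `A₅` or `A₆` given by a permutation. -/
def alt {k : ℕ} (σ : Equiv.Perm (Fin k)) (h : Equiv.Perm.sign σ = 1) : alternatingGroup (Fin k) :=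
  ⟨σ, Equiv.Perm.mem_alternatingGroup.2 h⟩

variable {Q : Type u} [Group Q] [Finite Q] (M : Subgroup Q) [M.Normal]

theorem eq_top_of_data (h : Small Q) [IsSimpleGroup M] {T : Type} [Group T] [Finite T] (e : T ≃* M)
    (h25 : ¬ 25 ∣ Nat.card T) (h3T : 3 ∣ Nat.card T)
    {z w y t v₀ : T} (hz : orderOf z = 5) (hw : orderOf w = 2) (hwz : w * z * w⁻¹ = z⁻¹)
    (hy : orderOf y = 3) (hty : t * y * t⁻¹ = y⁻¹) (hv₀ : orderOf v₀ = 2)
    (kill : (∀ x : Q, x ∉ M → x * x ∈ M → orderOf x = 4) → ∀ x : Q, x ∉ M → x * x = (e v₀ : Q) → False) :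
    M = ⊤ := by
  haveI : Fact (Nat.Prime 5) := ⟨by norm_num⟩
  set f : T →* Q := M.subtype.comp e.toMonoidHom with hf
  have hinj : Function.Injective f := M.subtype_injective.comp e.injective
  have hmem : ∀ a : T, f a ∈ M := fun a => (e a).2
  have hord : ∀ a : T, orderOf (f a) = orderOf a := fun a => orderOf_injective f hinj a
  have hcard : Nat.card M = Nat.card T := (Nat.card_congr e.toEquiv).symm
  have hfour : ∀ x : Q, x ∉ M → x * x ∈ M → orderOf x = 4 := fun x hx hx2 =>
    h.orderOf_outer_eq_four M (hmem y) (by rw [hord, hy]) (hmem t)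
      (by rw [← map_inv f t, ← map_mul, ← map_mul, hty, map_inv]) hx hx2
  have hno : ∀ x : Q, x ∉ M → x * x ∈ M → False := fun x hx hx2 => by
    have hx4 := hfour x hx hx2
    have hxo : orderOf (⟨x * x, hx2⟩ : M) = 2 := by
      rw [Subgroup.orderOf_mk, ← pow_two, orderOf_pow' _ two_ne_zero, hx4]; norm_num
    obtain ⟨g, hg⟩ := isConj_iff.1 ((h.subgroup M).isConj_of_invol (hcard ▸ h3T) hxo
      (show orderOf (e v₀) = 2 by rw [MulEquiv.orderOf_eq, hv₀]))
    refine kill hfour ((g : Q) * x * (g : Q)⁻¹) (fun hm => hx ?_) ?_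
    · have := mul_mem (mul_mem (inv_mem g.2) hm) g.2
      rwa [show (g : Q)⁻¹ * ((g : Q) * x * (g : Q)⁻¹) * (g : Q) = x by group] at this
    · have := congrArg Subtype.val hg
      simp only [Subgroup.coe_mul, Subgroup.coe_inv] at this
      rw [← this]; group
  by_contra htop
  haveI : Nontrivial (Q ⧸ M) := QuotientGroup.nontrivial_iff.2 htop
  obtain ⟨q, hq, hqd⟩ := Nat.exists_prime_and_dvd (Finite.one_lt_card (α := Q ⧸ M)).ne'
  haveI := Fact.mk hq
  obtain ⟨a, ha⟩ := exists_prime_orderOf_dvd_card' (G := Q ⧸ M) q hqd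
  obtain ⟨x, rfl⟩ := QuotientGroup.mk_surjective a
  have hx : x ∉ M := fun hm => hq.one_lt.ne' (by
    rw [← ha, (QuotientGroup.eq_one_iff x).2 hm, orderOf_one])
  have hxq : x ^ q ∈ M := by
    rw [← QuotientGroup.eq_one_iff, QuotientGroup.mk_pow, ← ha, pow_orderOf_eq_one]
  rcases eq_or_ne q 2 with rfl | hq2
  · exact hno x hx (by rwa [pow_two] at hxq)
  · exact h.not_outer_odd M (hmem z) (by rw [hord, hz]) (hmem w) (by rw [hord, hw])
      (by rw [← map_inv f w, ← map_mul, ← map_mul, hwz, map_inv]) (hcard ▸ h25) hq hq2 hx hxq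

theorem eq_top_of_alt_five (h : Small Q) (e : A5 ≃* M) : M = ⊤ := by
  haveI : IsSimpleGroup A5 := alternatingGroup.isSimpleGroup (by simp)
  haveI : IsSimpleGroup M := e.isSimpleGroup_congr.1 inferInstance
  set f : A5 →* Q := M.subtype.comp e.toMonoidHom with hf
  have hinj : Function.Injective f := M.subtype_injective.comp e.injective
  let v₀ : A5 := alt (swap 0 1 * swap 2 3) (by decide +kernel)
  let s₀ : A5 := alt (swap 0 2 * swap 1 3) (by decide +kernel)
  let y₀ : A5 := alt (swap 1 2 * swap 2 3) (by decide +kernel)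
  have hcard : Nat.card A5 = 60 := by rw [nat_card_alternatingGroup, Nat.card_fin]; rfl
  refine eq_top_of_data M h e (by rw [hcard]; norm_num) (by rw [hcard]; norm_num)
    (z := alt (swap 0 1 * swap 1 2 * swap 2 3 * swap 3 4) (by decide +kernel))
    (w := alt (swap 1 4 * swap 2 3) (by decide +kernel))
    (y := alt (swap 0 1 * swap 1 2) (by decide +kernel))
    (t := alt (swap 0 1 * swap 3 4) (by decide +kernel)) (v₀ := v₀)
    (orderOf_eq_prime (hp := ⟨by norm_num⟩) (by decide +kernel) (by decide +kernel))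
    (orderOf_eq_prime (by decide +kernel) (by decide +kernel)) (by decide +kernel)
    (orderOf_eq_prime (by decide +kernel) (by decide +kernel)) (by decide +kernel)
    (orderOf_eq_prime (by decide +kernel) (by decide +kernel)) fun hfour x hx hxv => ?_
  have hs1 : s₀ ≠ 1 ∧ s₀ ≠ v₀ := by decide +kernel
  have hlist : ∀ g : A5, g * v₀ = v₀ * g → g = 1 ∨ g = v₀ ∨ g = s₀ ∨ g = s₀ * v₀ := by decide +kernel
  refine h.no_outer_five M (v := f v₀) (s := f s₀) (y := f y₀) (e v₀).2 (e s₀).2 (e y₀).2 ?_ ?_ ?_ ?_ ?_ ?_ ?_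
    hfour hx hxv
  · rw [← map_mul, show v₀ * v₀ = 1 by decide +kernel, map_one]
  · rw [← map_mul, show s₀ * s₀ = 1 by decide +kernel, map_one]
  · rw [← map_mul, ← map_mul, show s₀ * v₀ = v₀ * s₀ by decide +kernel]
  · exact ⟨fun e' => hs1.1 (hinj (by rw [e', map_one])), fun e' => hs1.2 (hinj e')⟩
  · rw [← map_inv, ← map_mul, ← map_mul, show y₀ * v₀ * y₀⁻¹ = s₀ by decide +kernel]
  · rw [← map_inv, ← map_mul, ← map_mul, ← map_mul, show y₀ * s₀ * y₀⁻¹ = s₀ * v₀ by decide +kernel]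
  · intro g hg hgv
    obtain ⟨a, ha⟩ := e.surjective ⟨g, hg⟩
    have hga : f a = g := congrArg Subtype.val ha
    rw [← hga, ← map_mul, ← map_mul] at hgv
    rcases hlist a (hinj hgv) with r | r | r | r <;> rw [← hga, r] <;> simp

theorem eq_top_of_alt_six (h : Small Q) (e : A6 ≃* M) : M = ⊤ := by
  haveI : IsSimpleGroup A6 := alternatingGroup.isSimpleGroup (by simp)
  haveI : IsSimpleGroup M := e.isSimpleGroup_congr.1 inferInstance
  set f : A6 →* Q := M.subtype.comp e.toMonoidHom with hf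
  have hinj : Function.Injective f := M.subtype_injective.comp e.injective
  let v₀ : A6 := alt (swap 0 1 * swap 2 3) (by decide +kernel)
  let c₀ : A6 := alt (swap 0 2 * swap 2 1 * swap 1 3 * swap 4 5) (by decide +kernel)
  let s₀ : A6 := alt (swap 0 1 * swap 4 5) (by decide +kernel)
  have hcard : Nat.card A6 = 360 := by rw [nat_card_alternatingGroup, Nat.card_fin]; rfl
  refine eq_top_of_data M h e (by rw [hcard]; norm_num) (by rw [hcard]; norm_num)
    (z := alt (swap 0 1 * swap 1 2 * swap 2 3 * swap 3 4) (by decide +kernel))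
    (w := alt (swap 1 4 * swap 2 3) (by decide +kernel))
    (y := alt (swap 0 1 * swap 1 2) (by decide +kernel))
    (t := alt (swap 0 1 * swap 3 4) (by decide +kernel)) (v₀ := v₀)
    (orderOf_eq_prime (hp := ⟨by norm_num⟩) (by decide +kernel) (by decide +kernel))
    (orderOf_eq_prime (by decide +kernel) (by decide +kernel)) (by decide +kernel)
    (orderOf_eq_prime (by decide +kernel) (by decide +kernel)) (by decide +kernel)
    (orderOf_eq_prime (by decide +kernel) (by decide +kernel)) fun hfour x hx hxv => ?_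
  have hs1 : s₀ ≠ 1 ∧ s₀ ≠ c₀ ∧ s₀ ≠ v₀ ∧ s₀ ≠ c₀⁻¹ := by decide +kernel
  have hlist : ∀ g : A6, g * v₀ = v₀ * g → g = 1 ∨ g = c₀ ∨ g = v₀ ∨ g = c₀⁻¹ ∨ g = s₀ ∨ g = s₀ * c₀ ∨
      g = s₀ * v₀ ∨ g = s₀ * c₀⁻¹ := by decide +kernel
  refine h.no_outer_six M (v := f v₀) (c := f c₀) (s := f s₀) (e v₀).2 (e c₀).2 (e s₀).2 ?_ ?_ ?_ ?_ ?_ ?_ ?_
    hfour hx hxv
  · rw [← map_mul, show v₀ * v₀ = 1 by decide +kernel, map_one]
  · rw [← map_mul, show c₀ * c₀ = v₀ by decide +kernel]
  · rw [← map_mul, show s₀ * s₀ = 1 by decide +kernel, map_one]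
  · rw [← map_inv, ← map_mul, ← map_mul, ← map_inv, show s₀ * c₀ * s₀⁻¹ = c₀⁻¹ by decide +kernel]
  · exact fun e' => (show v₀ ≠ 1 by decide +kernel) (hinj (by rw [e', map_one]))
  · intro g hg hgv
    obtain ⟨a, ha⟩ := e.surjective ⟨g, hg⟩
    have hga : f a = g := congrArg Subtype.val ha
    rw [← hga, ← map_mul, ← map_mul] at hgv
    rcases hlist a (hinj hgv) with r | r | r | r | r | r | r | r <;> rw [← hga, r] <;> simp
  · exact ⟨fun e' => hs1.1 (hinj (by rw [e', map_one])), fun e' => hs1.2.1 (hinj e'),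
      fun e' => hs1.2.2.1 (hinj e'), fun e' => hs1.2.2.2 (hinj (by rw [e', map_inv]))⟩

end Cfsg.Agent.OrderFive
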