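import Mathlib
import Cfsg.Agent.Lib.OrderFive.Simple
import Cfsg.Agent.Lib.OrderFive.SocleTop
import Cfsg.Agent.Lib.Frobenius.FixedPointFree
import Cfsg.Agent.Lib.PrimeGraph.ThreePrimes
import Cfsg.Agent.Lib.Solvable.Basic
import Cfsg.Agent.S3992
import Cfsg.Agent.S3331
import Cfsg.Prelude.Def_Transfer

/-!
# Finite groups with set of element orders `{1, …, 5}`
-/

set_option autoImplicit false
set_option linter.style.haveILetI false
set_option linter.unusedSectionVars false

namespace Cfsg.Agent.OrderFive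

open Subgroup

universe u

variable {G : Type u} [Group G] [Finite G]

theorem Small.nonAdj (h : Small G) {p q : ℕ} (hpq : 6 ≤ p * q) : PrimeGraph.NonAdj G p q :=
  fun x hx => by have := h x; omega

theorem Small.not_isSolvable (h : Small G) (h2 : 2 ∣ Nat.card G) (h3 : 3 ∣ Nat.card G)
    (h5 : 5 ∣ Nat.card G) : ¬ Group.IsSolvable G := fun hs =>
  PrimeGraph.three_primes Nat.prime_two Nat.prime_three (by norm_num : (5 : ℕ).Prime) (by norm_num)
    (by norm_num) (by norm_num) h2 h3 h5 (h.nonAdj (by norm_num)) (h.nonAdj (by norm_num))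
    (h.nonAdj (by norm_num))

theorem exists_radical (G : Type u) [Group G] [Finite G] : ∃ R : Subgroup G, R.Normal ∧
    Group.IsSolvable R ∧ ∀ N : Subgroup G, N.Normal → Group.IsSolvable N → N ≤ R := by
  classical
  let S : Set (Subgroup G) := {N | N.Normal ∧ Group.IsSolvable N}
  have hne : S.Nonempty := ⟨⊥, inferInstance, inferInstance⟩
  obtain ⟨R, hR, hmax⟩ := (Set.toFinite S).exists_maximalFor (fun N : Subgroup G => Nat.card N) S hne
  refine ⟨R, hR.1, hR.2, fun N hN hNs => ?_⟩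
  haveI := hR.1
  haveI := hR.2
  haveI := hN
  haveI := hNs
  have hsup : Group.IsSolvable ↥(R ⊔ N) :=
    PrimeGraph.isSolvable_sup_of_le_normalizer R N le_normalizer_of_normal
  have hle := hmax (j := R ⊔ N) ⟨inferInstance, hsup⟩ (Subgroup.card_le_of_le le_sup_left)
  have := Subgroup.eq_of_le_of_card_ge (le_sup_left : R ≤ R ⊔ N) hle
  exact le_sup_right.trans this.ge

/-- Lifts of involutions over a normal subgroup of odd prime power order. -/
theorem Small.orderOf_lift (h : Small G) {R : Subgroup G} [R.Normal] {p : ℕ} (hp : p.Prime) (hp2 : p ≠ 2)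
    (hR : IsPGroup p R) {a : G} (ha : orderOf (a : G ⧸ R) = 2) : orderOf a = 2 := by
  have hd : 2 ∣ orderOf a := ha ▸ orderOf_map_dvd (QuotientGroup.mk' R) a
  rcases h.orderOf_cases a with e | e | e | e | e <;> rw [e] at hd <;>
    first | exact e | (norm_num at hd; done) | skip
  exfalso
  haveI := Fact.mk hp
  have hm : a ^ 2 ∈ R := by
    rw [← QuotientGroup.eq_one_iff, QuotientGroup.mk_pow, ← ha, pow_orderOf_eq_one]
  obtain ⟨k, hk⟩ := IsPGroup.iff_orderOf.1 hR ⟨a ^ 2, hm⟩
  rw [Subgroup.orderOf_mk, orderOf_pow' _ two_ne_zero, e] at hk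
  norm_num at hk
  exact hp2 ((Nat.prime_dvd_prime_iff_eq hp Nat.prime_two).1 (hk ▸ dvd_pow_self p (fun k0 => by
    rw [k0, pow_zero] at hk; omega)))

theorem Small.pCore_two (h : Small G) {R : Subgroup G} [R.Normal] {p : ℕ} (hp : p.Prime)
    (hR : IsPGroup p R) (hR1 : R ≠ ⊥) {a b : G ⧸ R} (ha : orderOf a = 2) (hb : orderOf b = 2)
    (hab : orderOf (a * b) = 2) : p = 2 := by
  by_contra hp2
  have h3p : 3 ≤ p := by have := hp.two_le; omega
  obtain ⟨a, rfl⟩ := QuotientGroup.mk_surjective a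
  obtain ⟨b, rfl⟩ := QuotientGroup.mk_surjective b
  rw [← QuotientGroup.mk_mul] at hab
  have inv : ∀ u : G, orderOf (u : G ⧸ R) = 2 → ∀ r ∈ R, u * r * u⁻¹ = r⁻¹ := fun u hu => by
    have huo := h.orderOf_lift hp hp2 hR hu
    refine inverts_of_fpf (mul_self_of_orderOf huo)
      (fun c hc => Subgroup.Normal.conj_mem inferInstance c hc u) fun c hc hfix => ?_
    haveI := Fact.mk hp
    obtain ⟨k, hk⟩ := IsPGroup.iff_orderOf.1 hR ⟨c, hc⟩
    rw [← Subgroup.orderOf_coe] at hk
    exact h.eq_one_of_fix huo hp h3p hk (mul_inv_eq_iff_eq_mul.1 hfix)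
  obtain ⟨r, hr, hr1⟩ := (Subgroup.bot_or_exists_ne_one R).resolve_left hR1
  have e1 : a * b * r * (a * b)⁻¹ = r := by
    calc a * b * r * (a * b)⁻¹ = a * (b * r * b⁻¹) * a⁻¹ := by group
      _ = r := by rw [inv b hb r hr, ← conj_inv, inv a ha r hr, inv_inv]
  have e2 : r * r = 1 := by
    have := inv (a * b) hab r hr
    rw [e1] at this
    nth_rewrite 1 [this]
    exact inv_mul_cancel r
  haveI := Fact.mk hp
  obtain ⟨k, hk⟩ := IsPGroup.iff_orderOf.1 hR ⟨r, hr⟩
  rw [← Subgroup.orderOf_coe] at hk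
  have h2 : orderOf r = 2 := orderOf_eq_prime (by rw [pow_two]; exact e2) hr1
  simp only at hk
  rw [h2] at hk
  rcases Nat.eq_zero_or_pos k with k0 | k0
  · rw [k0, pow_zero] at hk; omega
  · exact hp2 ((Nat.prime_dvd_prime_iff_eq hp Nat.prime_two).1 (hk ▸ dvd_pow_self p k0.ne'))

open scoped IsMulCommutative in
/-- There is no `A₆` above a nontrivial 2-group. -/
theorem Small.no_six_cover (h : Small G) {R : Subgroup G} [R.Normal] (hR : IsPGroup 2 R) (hR1 : R ≠ ⊥)
    (h9 : 9 ∣ Nat.card (G ⧸ R)) : False := by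
  haveI := Fact.mk Nat.prime_three
  haveI := Fact.mk Nat.prime_two
  haveI : Group.IsNilpotent R := hR.isNilpotent
  obtain ⟨V, -, hVn, hVR, hV1, -, hVc, -, -⟩ :=
    Agent.Solvable.exists_abelian_minimal_normal (inferInstance : Group.IsSolvable R) hR1
  haveI := hVn
  haveI := hVc
  haveI : Nontrivial V := (nontrivial_iff_ne_bot V).2 hV1
  have h9G : 3 ^ 2 ∣ Nat.card G := by
    norm_num
    exact h9.trans (Subgroup.card_quotient_dvd_card R)
  obtain ⟨A, hA⟩ := Sylow.exists_subgroup_card_pow_prime 3 h9G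
  have hAp : IsPGroup 3 A := IsPGroup.of_card hA
  have hcomm := IsPGroup.commutative_of_card_eq_prime_sq (p := 3) (G := A) (by rw [hA])
  have hfpf : ∀ a ∈ A, a ≠ 1 → V ⊓ centralizer ({a} : Set G) = ⊥ := fun a ha ha1 => by
    rw [eq_bot_iff]
    rintro r ⟨hrV, hrC⟩
    rw [Subgroup.mem_bot]
    by_contra hr1
    have ha3 := orderOf_eq_of_mem h le_rfl hAp ha ha1
    obtain ⟨k, hk⟩ := IsPGroup.iff_orderOf.1 hR ⟨r, hVR hrV⟩
    rw [← Subgroup.orderOf_coe] at hk
    simp only at hk
    have hle := h.mul_le (x := r) (y := a) (mem_centralizer_singleton_iff.1 hrC)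
      (by rw [hk, ha3]; exact Nat.Coprime.pow_left k (by norm_num))
    rw [hk, ha3] at hle
    rcases Nat.eq_zero_or_pos k with k0 | k0
    · exact hr1 (orderOf_eq_one_iff.1 (by rw [hk, k0, pow_zero]))
    · have : 2 ^ 1 ≤ 2 ^ k := Nat.pow_le_pow_right two_pos k0
      omega
  obtain ⟨g, hg⟩ := Frobenius.Fpf.isCyclic_of_comm
    (Frobenius.Fpf.isFpf_conjHom A V le_normalizer_of_normal hfpf) fun x y => hcomm x y
  have h9' : orderOf g = 9 := by
    rw [orderOf_eq_card_of_forall_mem_zpowers hg, hA]; norm_num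
  have := h (g : G)
  rw [Subgroup.orderOf_coe, h9'] at this
  omega

/-- A self-centralising element of order three above a 2-group. -/
theorem Small.five_cover (h : Small G) (hns : ¬ Group.IsSolvable G) {R : Subgroup G} [R.Normal]
    (hR : IsPGroup 2 R) (h60 : Nat.card (G ⧸ R) = 60) :
    ∃ (N : Subgroup G) (_ : N.Normal), Cfsg.IsElementaryAbelian 2 N ∧
      Nonempty (G ⧸ N ≃* alternatingGroup (Fin 5)) := by
  haveI := Fact.mk Nat.prime_three
  haveI := Fact.mk Nat.prime_two
  obtain ⟨x, hx⟩ := exists_prime_orderOf_dvd_card' (G := G) 3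
    ((by rw [h60]; norm_num : 3 ∣ Nat.card (G ⧸ R)).trans (Subgroup.card_quotient_dvd_card R))
  have hC : centralizer ((zpowers x : Subgroup G) : Set G) = zpowers x := by
    rw [Blocks.centralizer_zpowers_eq]
    have hle : zpowers x ≤ centralizer ({x} : Set G) :=
      zpowers_le.2 (mem_centralizer_singleton_iff.2 rfl)
    refine (Subgroup.eq_of_le_of_card_ge hle ?_).symm
    have hp := h.centralizer_isPGroup Nat.prime_three hx
    obtain ⟨k, hk⟩ := hp.exists_card_eq
    have hdisj : Disjoint (centralizer ({x} : Set G)) R := IsPGroup.disjoint_of_ne 3 2 (by norm_num) _ _ hp hR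
    have hd : Nat.card (centralizer ({x} : Set G)) ∣ 60 := by
      rw [← h60]
      refine Subgroup.card_dvd_of_injective ((QuotientGroup.mk' R).comp (centralizer ({x} : Set G)).subtype)
        ((MonoidHom.ker_eq_bot_iff _).1 ?_)
      rw [eq_bot_iff]
      intro c hc
      have : (c : G) ∈ R := (QuotientGroup.eq_one_iff _).1 hc
      rw [Subgroup.mem_bot]
      exact Subtype.ext (Subgroup.disjoint_def.1 hdisj c.2 this)
    rw [Nat.card_zpowers, hx, hk]
    rw [hk] at hd
    by_contra hgt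
    have hk2 : 2 ≤ k := by
      by_contra hh
      exact hgt (le_trans (Nat.pow_le_pow_right (by norm_num) (show k ≤ 1 by omega)) (by norm_num))
    have : 3 ^ 2 ∣ 60 := (pow_dvd_pow 3 hk2).trans hd
    norm_num at this
  rcases Cfsg.Agent.S3331.result (zpowers x) (by rw [Nat.card_zpowers, hx]) hC with
    ⟨N, hN, hnil, -, hq⟩ | ⟨N, hN, hNc, hN2, hφ⟩ | ⟨⟨φ⟩⟩
  · refine absurd ((Group.isSolvable_iff_subgroup_quotient N).2 ⟨inferInstance, ?_⟩) hns
    rcases hq with hq | ⟨⟨φ⟩⟩
    · exact CharInt.isSolvable_of_card_eq Nat.prime_two Nat.prime_three (a := 0) (b := 1) (by rw [hq]; norm_num)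
    · refine CharInt.isSolvable_of_card_eq Nat.prime_two Nat.prime_three (a := 1) (b := 1) ?_
      rw [Nat.card_congr φ.toEquiv, Nat.card_eq_fintype_card, Fintype.card_perm, Fintype.card_fin]
      rfl
  · exact ⟨N, hN, ⟨hNc, hN2⟩, hφ⟩
  · exfalso
    haveI : Fact (Nat.Prime 7) := ⟨by norm_num⟩
    haveI : Finite (Matrix.ProjectiveSpecialLinearGroup (Fin 2) (ZMod 7)) := Finite.of_equiv G φ.toEquiv
    have hc := Nat.card_congr φ.toEquiv
    rw [PSL2.card_PSL (F := ZMod 7), ZMod.card] at hc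
    obtain ⟨g, hg⟩ := exists_prime_orderOf_dvd_card' (G := G) 7 (by rw [hc]; norm_num)
    have := h g
    omega

/-- The structure of a group with element orders at most five and divisible by `2`, `3`, `5`. -/
theorem Small.structure (h : Small G) (h2 : 2 ∣ Nat.card G) (h3 : 3 ∣ Nat.card G) (h5 : 5 ∣ Nat.card G) :
    Nonempty (G ≃* alternatingGroup (Fin 6)) ∨
      ∃ (N : Subgroup G) (_ : N.Normal), Cfsg.IsElementaryAbelian 2 N ∧
        Nonempty (G ⧸ N ≃* alternatingGroup (Fin 5)) := by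
  have hns := h.not_isSolvable h2 h3 h5
  have hpp : ∀ g : G, g ≠ 1 → IsPrimePow (orderOf g) := fun g hg => by
    rcases h.orderOf_cases g with e | e | e | e | e
    · exact absurd (orderOf_eq_one_iff.1 e) hg
    · rw [e]; exact Nat.prime_two.isPrimePow
    · rw [e]; exact Nat.prime_three.isPrimePow
    · rw [e]; exact ⟨2, 2, Nat.prime_two.prime, by norm_num, by norm_num⟩
    · rw [e]; exact (by norm_num : (5 : ℕ).Prime).isPrimePow
  obtain ⟨R, hRn, hRs, hRmax⟩ := exists_radical G
  obtain ⟨⟨p, hp, hRp⟩, ⟨M, hMn, hMs, hMc, -⟩, -⟩ := Cfsg.Agent.S3992.result hns hpp R hRs hRmax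
  haveI := hMs
  haveI := Fintype.ofFinite M
  have hQ := h.quotient R
  have hquot : Nonempty (G ⧸ R ≃* alternatingGroup (Fin 5)) ∨ Nonempty (G ⧸ R ≃* alternatingGroup (Fin 6)) := by
    rcases (hQ.subgroup M).iso_alternating hMc with ⟨⟨e⟩⟩ | ⟨⟨e⟩⟩
    · have ht := eq_top_of_alt_five M hQ e.symm
      exact Or.inl ⟨Subgroup.topEquiv.symm.trans ((MulEquiv.subgroupCongr ht.symm).trans e)⟩
    · have ht := eq_top_of_alt_six M hQ e.symm
      exact Or.inr ⟨Subgroup.topEquiv.symm.trans ((MulEquiv.subgroupCongr ht.symm).trans e)⟩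
  by_cases hR1 : R = ⊥
  · subst hR1
    rcases hquot with hq | hq
    · refine Or.inr ⟨⊥, inferInstance, ⟨inferInstance, fun a ha => ?_⟩, hq⟩
      rw [Subgroup.mem_bot] at ha
      rw [ha, one_pow]
    · obtain ⟨φ⟩ := hq
      exact Or.inl ⟨QuotientGroup.quotientBot.symm.trans φ⟩
  obtain rfl : p = 2 := by
    have pick : ∀ {k : ℕ} (φ : G ⧸ R ≃* alternatingGroup (Fin k)) (a b : alternatingGroup (Fin k)),
        orderOf a = 2 → orderOf b = 2 → orderOf (a * b) = 2 → p = 2 := fun φ a b ha hb hab =>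
      h.pCore_two hp hRp hR1 (a := φ.symm a) (b := φ.symm b) (by rw [MulEquiv.orderOf_eq, ha])
        (by rw [MulEquiv.orderOf_eq, hb]) (by rw [← map_mul, MulEquiv.orderOf_eq, hab])
    rcases hquot with ⟨⟨φ⟩⟩ | ⟨⟨φ⟩⟩
    · exact pick φ (alt (Equiv.swap 0 1 * Equiv.swap 2 3) (by decide +kernel))
        (alt (Equiv.swap 0 2 * Equiv.swap 1 3) (by decide +kernel))
        (orderOf_eq_prime (by decide +kernel) (by decide +kernel))
        (orderOf_eq_prime (by decide +kernel) (by decide +kernel))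
        (orderOf_eq_prime (by decide +kernel) (by decide +kernel))
    · exact pick φ (alt (Equiv.swap 0 1 * Equiv.swap 2 3) (by decide +kernel))
        (alt (Equiv.swap 0 2 * Equiv.swap 1 3) (by decide +kernel))
        (orderOf_eq_prime (by decide +kernel) (by decide +kernel))
        (orderOf_eq_prime (by decide +kernel) (by decide +kernel))
        (orderOf_eq_prime (by decide +kernel) (by decide +kernel))
  rcases hquot with ⟨⟨φ⟩⟩ | ⟨⟨φ⟩⟩
  · refine Or.inr (h.five_cover hns hRp ?_)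
    rw [Nat.card_congr φ.toEquiv, nat_card_alternatingGroup, Nat.card_fin]; rfl
  · refine (h.no_six_cover hRp hR1 ?_).elim
    rw [Nat.card_congr φ.toEquiv, nat_card_alternatingGroup, Nat.card_fin]; decide

end Cfsg.Agent.OrderFive
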