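import Mathlib
import Cfsg.Agent.Lib.OrderFive.Structure
import Cfsg.Agent.Lib.HigmanSL2.Main
import Cfsg.Agent.Lib.Presented.SmallHom
import Cfsg.Agent.Lib.PSL2.SmallIso
import Cfsg.Agent.Lib.BrauerPSL.Recognition
import Cfsg.Agent.Lib.Spectrum.AffineSL2F4

/-!
# An affine group inside a group with element orders at most five and a nontrivial radical
-/

set_option autoImplicit false
set_option linter.style.haveILetI false
set_option linter.unusedSectionVars false

namespace Cfsg.Agent.OrderFive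

open Subgroup Matrix
open scoped MatrixGroups

universe u

variable {G : Type u} [Group G] [Finite G]

theorem fpf_three (h : Small G) {N : Subgroup G} (hN : ∀ n ∈ N, n ^ 2 = 1) {t : G} (ht : orderOf t = 3)
    {q : G} (hq : q ∈ N) (hfix : t * q * t⁻¹ = q) : q = 1 := by
  by_contra hne
  exact h.not_commute_two (orderOf_eq_prime (hN q hq) hne) Nat.prime_three le_rfl ht
    (mul_inv_eq_iff_eq_mul.1 hfix).symm

theorem orderOf_lift_odd (h : Small G) {N : Subgroup G} [N.Normal] {g : G} {p : ℕ} (h3 : 3 ≤ p)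
    (hg : orderOf (g : G ⧸ N) = p) : orderOf g = p := by
  obtain ⟨d, hd⟩ := hg ▸ orderOf_map_dvd (QuotientGroup.mk' N) g
  have := h g
  have := orderOf_pos g
  rcases (show d = 0 ∨ d = 1 ∨ 2 ≤ d by omega) with e | e | e
  · rw [e, mul_zero] at hd; omega
  · rw [hd, e, mul_one]
  · have : p * 2 ≤ p * d := Nat.mul_le_mul_left p e
    omega

/-- An involution of the quotient inverting an element of order three lifts to an involution. -/
theorem exists_involution_lift (h : Small G) {N : Subgroup G} [N.Normal] (hN : ∀ n ∈ N, n ^ 2 = 1)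
    {u t : G ⧸ N} (hu : u * u = 1) (ht : orderOf t = 3) (hut : u * t * u⁻¹ = t⁻¹) :
    ∃ v : G, (v : G ⧸ N) = u ∧ v * v = 1 := by
  obtain ⟨t, rfl⟩ := QuotientGroup.mk_surjective t
  obtain ⟨u, rfl⟩ := QuotientGroup.mk_surjective u
  have ht' : orderOf t = 3 := orderOf_lift_odd h le_rfl ht
  have hn : t * (u * t * u⁻¹) ∈ N := by
    rw [← QuotientGroup.eq_one_iff, QuotientGroup.mk_mul, QuotientGroup.mk_mul, QuotientGroup.mk_mul,
      QuotientGroup.mk_inv, hut, mul_inv_cancel]
  let f : N → N := fun m => ⟨t * ((m : G) * t⁻¹ * (m : G)⁻¹), by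
    rw [show t * ((m : G) * t⁻¹ * (m : G)⁻¹) = t * (m : G) * t⁻¹ * (m : G)⁻¹ by group]
    exact mul_mem (Subgroup.Normal.conj_mem inferInstance _ m.2 t) (inv_mem m.2)⟩
  have hf : Function.Injective f := fun a b hab => by
    have e : t * ((a : G) * t⁻¹ * (a : G)⁻¹) = t * ((b : G) * t⁻¹ * (b : G)⁻¹) := congrArg Subtype.val hab
    have e' := mul_left_cancel e
    have hfix : t * ((b : G)⁻¹ * a) * t⁻¹ = (b : G)⁻¹ * a := by
      have e2 : (b : G)⁻¹ * ((a : G) * t⁻¹ * (a : G)⁻¹) * a = t⁻¹ * ((b : G)⁻¹ * a) := by rw [e']; group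
      calc t * ((b : G)⁻¹ * a) * t⁻¹ = t * ((b : G)⁻¹ * ((a : G) * t⁻¹ * (a : G)⁻¹) * a) := by group
        _ = (b : G)⁻¹ * a := by rw [e2]; group
    exact Subtype.ext (inv_mul_eq_one.1 (fpf_three h hN ht' (mul_mem (inv_mem b.2) a.2) hfix)).symm
  obtain ⟨m, hm⟩ := Finite.surjective_of_injective hf ⟨_, hn⟩
  have hm' : (m : G) * t⁻¹ * (m : G)⁻¹ = u * t * u⁻¹ := mul_left_cancel (congrArg Subtype.val hm)
  set v := (m : G)⁻¹ * u with hv
  have hvt : v * t * v⁻¹ = t⁻¹ := by
    rw [hv, show (m : G)⁻¹ * u * t * ((m : G)⁻¹ * u)⁻¹ = (m : G)⁻¹ * (u * t * u⁻¹) * m by group, ← hm']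
    group
  have hvu : (v : G ⧸ N) = u := by
    rw [hv, QuotientGroup.mk_mul, QuotientGroup.mk_inv, (QuotientGroup.eq_one_iff _).2 m.2, inv_one, one_mul]
  refine ⟨v, hvu, fpf_three h hN ht' ?_ ?_⟩
  · rw [← QuotientGroup.eq_one_iff, QuotientGroup.mk_mul, hvu, hu]
  · have e : v * v * t * (v * v)⁻¹ = t := by
      rw [show v * v * t * (v * v)⁻¹ = v * (v * t * v⁻¹) * v⁻¹ by group, hvt, ← conj_inv, hvt, inv_inv]
    rw [mul_inv_eq_iff_eq_mul] at e ⊢
    exact e.symm

/-- A complement of `A₅` type. -/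
theorem exists_section (h : Small G) {N : Subgroup G} [N.Normal] (hN : ∀ n ∈ N, n ^ 2 = 1)
    (hc : IsMulCommutative N) (e : G ⧸ N ≃* alternatingGroup (Fin 5)) :
    ∃ s : G ⧸ N →* G, ∀ a, (s a : G ⧸ N) = a := by
  obtain ⟨a, b, ha, hb, hab⟩ : ∃ a b : alternatingGroup (Fin 5), orderOf a = 3 ∧ orderOf b = 5 ∧
      orderOf (a * b) = 2 := by
    refine ⟨alt (Equiv.swap 0 1 * Equiv.swap 1 2) (by decide +kernel),
      (alt (Equiv.swap 0 4 * Equiv.swap 0 3 * Equiv.swap 0 2 * Equiv.swap 0 1) (by decide +kernel)) ^ 2,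
      orderOf_eq_prime (by decide +kernel) (by decide +kernel),
      orderOf_eq_prime (hp := ⟨by norm_num⟩) (by decide +kernel) (by decide +kernel),
      orderOf_eq_prime (by decide +kernel) (by decide +kernel)⟩
  obtain ⟨t, ht, htu⟩ : ∃ t : alternatingGroup (Fin 5), orderOf t = 3 ∧ a * b * t * (a * b)⁻¹ = t⁻¹ := by
    have key : ∀ w : alternatingGroup (Fin 5), w * w = 1 → w ≠ 1 →
        ∃ t : alternatingGroup (Fin 5), t * t * t = 1 ∧ t ≠ 1 ∧ w * t * w⁻¹ = t⁻¹ := by decide +kernel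
    obtain ⟨t, h3, h1, h2⟩ := key (a * b) (by rw [← pow_two, ← hab, pow_orderOf_eq_one])
      (fun e1 => by rw [e1, orderOf_one] at hab; omega)
    exact ⟨t, orderOf_eq_prime (by rw [pow_three', h3]) h1, h2⟩
  obtain ⟨v, hv, hv2⟩ := exists_involution_lift h hN (u := e.symm (a * b)) (t := e.symm t)
    (by rw [← map_mul, ← pow_two, ← hab, pow_orderOf_eq_one, map_one])
    (by rw [MulEquiv.orderOf_eq, ht]) (by rw [← map_inv, ← map_mul, ← map_mul, htu, map_inv])
  obtain ⟨x, hx⟩ := QuotientGroup.mk_surjective (e.symm a)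
  have hx3 : orderOf x = 3 := orderOf_lift_odd h le_rfl (by rw [hx, MulEquiv.orderOf_eq, ha])
  have hz : ((x⁻¹ * v : G) : G ⧸ N) = e.symm b := by
    rw [QuotientGroup.mk_mul, QuotientGroup.mk_inv, hx, hv, map_mul, inv_mul_cancel_left]
  have hz5 : orderOf (x⁻¹ * v) = 5 := orderOf_lift_odd h (by norm_num) (by rw [hz, MulEquiv.orderOf_eq, hb])
  obtain ⟨φ, hφ⟩ := Presented.SmallHom.exists_altFive_hom (x := x) (y := x⁻¹ * v)
    (by rw [← hx3, pow_orderOf_eq_one]) (by rw [← hz5, pow_orderOf_eq_one])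
    (by rw [mul_inv_cancel_left, pow_two, hv2]) (fun h1 => by rw [h1, orderOf_one] at hx3; omega)
  set ψ : alternatingGroup (Fin 5) →* G ⧸ N := (QuotientGroup.mk' N).comp φ with hψ
  haveI : IsSimpleGroup (alternatingGroup (Fin 5)) := alternatingGroup.isSimpleGroup_five
  have hinj : Function.Injective ψ := by
    rw [← MonoidHom.ker_eq_bot_iff]
    refine (IsSimpleGroup.eq_bot_or_eq_top_of_normal ψ.ker inferInstance).resolve_right fun htop => ?_
    have hmem : ∀ a, φ a ∈ N := fun a =>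
      (QuotientGroup.eq_one_iff _).1 (MonoidHom.mem_ker.1 (htop ▸ Subgroup.mem_top a))
    have hcomm : ∀ a b : alternatingGroup (Fin 5), a * b = b * a := fun a b =>
      hφ (by rw [map_mul, map_mul]; exact congrArg Subtype.val (hc.is_comm.comm ⟨_, hmem a⟩ ⟨_, hmem b⟩))
    exact absurd (hcomm (alt (Equiv.swap 0 1 * Equiv.swap 1 2) (by decide +kernel))
      (alt (Equiv.swap 1 2 * Equiv.swap 2 3) (by decide +kernel))) (by decide +kernel)
  have hbij : Function.Bijective ψ := (Nat.bijective_iff_injective_and_card ψ).2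
    ⟨hinj, (Nat.card_congr e.toEquiv).symm⟩
  refine ⟨φ.comp (MulEquiv.ofBijective ψ hbij).symm.toMonoidHom, fun a => ?_⟩
  exact (MulEquiv.ofBijective ψ hbij).apply_symm_apply a

theorem nonempty_sl_equiv_alt {F : Type} [Field F] [Fintype F] (hF : Fintype.card F = 4) :
    Nonempty (SL(2, F) ≃* alternatingGroup (Fin 5)) := by
  obtain ⟨e⟩ := PSL2.psl_four_five_iso (F := F) (Or.inl hF)
  obtain ⟨e'⟩ := BrauerPSL.sl_equiv_psl (F := F) (a := 2) (by rw [hF]; norm_num)
  exact ⟨e'.trans e⟩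

theorem linearPart_apply {F : Type} [Field F] (M : Spectrum.AffineSL2F4.affine F) (i j : Fin 2) :
    ((Spectrum.AffineSL2F4.linearPart F M : SL(2, F)) : Matrix (Fin 2) (Fin 2) F) i j =
      M.1.1 i.castSucc j.castSucc := by
  fin_cases i <;> fin_cases j <;> rfl

/-- The affine group `F² ⋊ SL(2, F)` embeds. -/
theorem exists_affine_hom (h : Small G) {N : Subgroup G} [N.Normal] (hN : ∀ n ∈ N, n ^ 2 = 1)
    (hc : IsMulCommutative N) (hN1 : N ≠ ⊥) (e : G ⧸ N ≃* alternatingGroup (Fin 5))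
    {F : Type} [Field F] [Fintype F] (hF : Fintype.card F = 4) :
    ∃ f : Spectrum.AffineSL2F4.affine F →* G, Function.Injective f := by
  haveI := Fact.mk Nat.prime_two
  obtain ⟨s, hs⟩ := exists_section h hN hc e
  obtain ⟨eSL⟩ := nonempty_sl_equiv_alt hF
  set eQ : G ⧸ N ≃* SL(2, F) := e.trans eSL.symm with heQ
  have h2 : (2 : F) = 0 := PSL2.even_card_iff.1 (by rw [hF]; decide)
  haveI := Fact.mk Nat.prime_three
  obtain ⟨x, hx⟩ := exists_prime_orderOf_dvd_card' (G := G) 3
    ((show 3 ∣ Nat.card (G ⧸ N) by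
      rw [Nat.card_congr e.toEquiv, nat_card_alternatingGroup, Nat.card_fin]; decide).trans
      (Subgroup.card_quotient_dvd_card N))
  have hN2 : IsPGroup 2 N := fun n => ⟨1, Subtype.ext (by rw [pow_one]; exact hN n n.2)⟩
  obtain ⟨-, k, φ, hφm, hφe⟩ := HigmanSL2.higman N hN2 h2 (by rw [Nat.card_eq_fintype_card, hF]) eQ x hx
    (fun q hq hfix => fpf_three h hN hx hq hfix)
  have hk : 0 < k := by
    by_contra hk0
    refine hN1 (Subgroup.eq_bot_of_card_eq _ ?_)
    rw [← Nat.card_congr φ]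
    have : IsEmpty (Fin k) := ⟨fun i => by have := i.2; omega⟩
    exact Nat.card_unique
  have hφ0 : (φ 0 : G) = 1 := by
    have e0 := congrArg Subtype.val (hφm 0 0)
    rw [add_zero, Subgroup.coe_mul] at e0
    exact left_eq_mul.1 e0
  let i₀ : Fin k := ⟨0, hk⟩
  let vec : Spectrum.AffineSL2F4.affine F → Fin k → Fin 2 → F := fun M =>
    Pi.single i₀ ![M.1.1 0 2, M.1.1 1 2]
  let f : Spectrum.AffineSL2F4.affine F →* G := MonoidHom.mk'
    (fun M => (φ (vec M) : G) * s (eQ.symm (Spectrum.AffineSL2F4.linearPart F M))) fun A B => by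
      set g := s (eQ.symm (Spectrum.AffineSL2F4.linearPart F A)) with hg
      have hact := hφe g (vec B)
      rw [hg, hs, MulEquiv.apply_symm_apply] at hact
      have hvec : vec (A * B) = vec A + fun i =>
          ((Spectrum.AffineSL2F4.linearPart F A : SL(2, F)) : Matrix (Fin 2) (Fin 2) F).mulVec (vec B i) := by
        funext i
        obtain ⟨b0, b1, b2⟩ := B.2
        by_cases hi : i = i₀
        · subst hi
          simp only [vec, Pi.single_eq_same, Pi.add_apply]
          funext j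
          fin_cases j <;>
            simp [linearPart_apply, Matrix.mulVec, dotProduct, Fin.sum_univ_two,
              Matrix.mul_apply, Fin.sum_univ_three, Matrix.SpecialLinearGroup.coe_mul, b2] <;> ring
        · simp only [vec, Pi.single_eq_of_ne hi, Pi.add_apply, Matrix.mulVec_zero, add_zero]
      rw [hvec, hφm, map_mul (Spectrum.AffineSL2F4.linearPart F), map_mul eQ.symm, map_mul s,
        Subgroup.coe_mul, hact, ← hg]
      group
  refine ⟨f, (injective_iff_map_eq_one f).2 fun M hM => ?_⟩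
  have hM' : (φ (vec M) : G) * s (eQ.symm (Spectrum.AffineSL2F4.linearPart F M)) = 1 := hM
  have hlin : Spectrum.AffineSL2F4.linearPart F M = 1 := by
    have e1 := congrArg (fun g : G => (g : G ⧸ N)) hM'
    simp only [QuotientGroup.mk_mul, QuotientGroup.mk_one, (QuotientGroup.eq_one_iff _).2 (φ (vec M)).2,
      one_mul, hs] at e1
    exact eQ.symm.injective (e1.trans (map_one eQ.symm).symm)
  rw [hlin, map_one, map_one, mul_one] at hM'
  have hv : vec M = 0 := φ.injective (Subtype.ext (hM'.trans hφ0.symm))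
  have hv0 := congrFun hv i₀
  simp only [vec, Pi.single_eq_same, Pi.zero_apply] at hv0
  have h02 := congrFun hv0 0
  have h12 := congrFun hv0 1
  simp at h02 h12
  have hl := congrArg (fun A : SL(2, F) => (A : Matrix (Fin 2) (Fin 2) F)) hlin
  have l00 := congrFun (congrFun hl 0) 0
  have l01 := congrFun (congrFun hl 0) 1
  have l10 := congrFun (congrFun hl 1) 0
  have l11 := congrFun (congrFun hl 1) 1
  rw [linearPart_apply] at l00 l01 l10 l11
  simp at l00 l01 l10 l11
  obtain ⟨m0, m1, m2⟩ := M.2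
  apply Subtype.ext
  apply Subtype.ext
  ext i j
  fin_cases i <;> fin_cases j <;> simp [h02, h12, l00, l01, l10, l11, m0, m1, m2]

end Cfsg.Agent.OrderFive
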